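import Groth.Agent.ResProp.EF.K412.Mid
import Groth.Agent.ResProp.EF.K748.Pts
import Groth.Agent.ResProp.EF.K542.Rad
import Groth.Agent.ResProp.EF.K895.P5
import Groth.Agent.ResProp.EF.K807.P5
import Groth.Agent.ResProp.EF.K58.Coact

/-!
# G1, node M3 (helper840): the ideal `I` of `MidData` is stable; the functions `φ_j`

* `rho_mem_radical_of_cov` : `ρ_B (I) ⊆ √(I ⊗ O)` for an ideal `I` with the properties `rad`, `cov`, `surj` of `MidData`;
* `stable_of_cov` : `ρ_B (I) ⊆ I ⊗ O` if `O` keeps reducedness;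
* `exists_phi` : `φ : Fin (N+1) → I` with `I ≤ √(φ)` and a matrix `R`, `ρ_B φ_j = ∑ φ_i ⊗ R_ij`;
* `M3` : the same for `M : MidData F`.
-/

set_option autoImplicit false
universe u

open TensorProduct Groth.Agent.ResProp.EF.K83

noncomputable section

namespace Groth.Agent.ResProp.EF.K840.M3

section abstract

variable {k O : Type u} [CommRing k] [CommRing O] [HopfAlgebra k O]
variable {B0 D0 : Type u} [CommRing B0] [Algebra k B0] [CommRing D0] [Algebra k D0]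

/-- **(a)** -/
theorem rho_mem_radical_of_cov (cB : CoAlg k O B0) (cD : CoAlg k O D0) (f : B0 →ₐ[k] D0)
    (hf : ∀ x, cD.ρ (f x) = Algebra.TensorProduct.map f (AlgHom.id k O) (cB.ρ x))
    {ι : Type*} (t : ι → D0) (χ : ι → O) (hχ : ∀ j, IsUnit (χ j)) (ht : ∀ j, cD.ρ (t j) = t j ⊗ₜ χ j)
    (I : Ideal B0) (hI : I.IsRadical)
    (cov : ∀ P : Ideal D0, P.IsPrime → ((∃ j, t j ∉ P) ↔ ¬ I ≤ P.comap f.toRingHom))
    (surj : ∀ P : Ideal B0, P.IsPrime → ¬ I ≤ P → ∃ Q : Ideal D0, Q.IsPrime ∧ Q.comap f.toRingHom = P)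
    (φ : B0) (hφ : φ ∈ I) :
    cB.ρ φ ∈ (I.map (Algebra.TensorProduct.includeLeft (R := k) (S := k) (A := B0) (B := O))).radical := by
  have hV : (PrimeSpectrum.vanishingIdeal (PrimeSpectrum.zeroLocus (I : Set B0))ᶜᶜ) = I := by
    rw [compl_compl, PrimeSpectrum.vanishingIdeal_zeroLocus_eq_radical, hI.radical]
  have h := K748.rho_mem_radical cB cD f hf t χ hχ ht (PrimeSpectrum.zeroLocus (I : Set B0))ᶜ
    (PrimeSpectrum.isClosed_zeroLocus _).isOpen_compl ?_ ?_ φ (by rw [hV]; exact hφ)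
  · rwa [hV] at h
  · intro q j hq hc
    exact (cov q.asIdeal q.2).1 ⟨j, hq⟩ hc
  · intro v hv
    obtain ⟨Q, hQ, hQv⟩ := surj v.asIdeal v.2 hv
    obtain ⟨j, hj⟩ := (cov Q hQ).2 (by rw [hQv]; exact hv)
    exact ⟨⟨Q, hQ⟩, j, hj, PrimeSpectrum.ext hQv⟩

/-- `I` is a subcomodule if `O` keeps reducedness -/
theorem stable_of_cov (hO : K542.KeepsRed k O) (cB : CoAlg k O B0) (cD : CoAlg k O D0) (f : B0 →ₐ[k] D0)
    (hf : ∀ x, cD.ρ (f x) = Algebra.TensorProduct.map f (AlgHom.id k O) (cB.ρ x))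
    {ι : Type*} (t : ι → D0) (χ : ι → O) (hχ : ∀ j, IsUnit (χ j)) (ht : ∀ j, cD.ρ (t j) = t j ⊗ₜ χ j)
    (I : Ideal B0) (hI : I.IsRadical)
    (cov : ∀ P : Ideal D0, P.IsPrime → ((∃ j, t j ∉ P) ↔ ¬ I ≤ P.comap f.toRingHom))
    (surj : ∀ P : Ideal B0, P.IsPrime → ¬ I ≤ P → ∃ Q : Ideal D0, Q.IsPrime ∧ Q.comap f.toRingHom = P)
    (φ : B0) (hφ : φ ∈ I) :
    cB.ρ φ ∈ I.map (Algebra.TensorProduct.includeLeft (R := k) (S := k) (A := B0) (B := O)) := by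
  have h := K542.rho_radical hO cB.ρ I (rho_mem_radical_of_cov cB cD f hf t χ hχ ht I hI cov surj) φ
    (by rw [hI.radical]; exact hφ)
  rwa [hI.radical] at h

/-- a coaction in the sense of `K895.P5` -/
theorem isCo (cB : CoAlg k O B0) : K895.P5.IsCo (k := k) (O := O) cB.ρ.toLinearMap where
  coassoc m := cB.coassoc m
  counit m := by
    have h := cB.counit m
    rw [K895.P5.con, LinearMap.comp_apply]
    change TensorProduct.rid k B0 (LinearMap.lTensor B0 Coalgebra.counit (cB.ρ m)) = m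
    rw [h, TensorProduct.rid_tmul, one_smul]

/-- `I` is stable in the sense of `K895.P5` -/
theorem stable_con (cB : CoAlg k O B0) (I : Ideal B0)
    (h : ∀ φ ∈ I, cB.ρ φ ∈ I.map (Algebra.TensorProduct.includeLeft (R := k) (S := k) (A := B0) (B := O))) :
    K895.P5.Stable (k := k) (O := O) cB.ρ.toLinearMap (I.restrictScalars k) := by
  intro g x hx
  have h1 : cB.ρ x ∈ (I.map (Algebra.TensorProduct.includeLeft (R := k) (S := k) (A := B0) (B := O))).restrictScalars k :=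
    h x hx
  rw [Ideal.map_includeLeft_eq (R := k) (A := B0) (B := O) I] at h1
  obtain ⟨w, hw⟩ := h1
  change K895.P5.con B0 g (cB.ρ x) ∈ _
  rw [← hw, K895.P5.con_nat]
  exact (K895.P5.con _ g w).2

/-- **(b)** the functions `φ_j`: `k` a principal ideal domain, `O` free and keeping reducedness -/
theorem exists_phi [IsDomain k] [IsPrincipalIdealRing k] [Module.Free k O] (hO : K542.KeepsRed k O)
    (cB : CoAlg k O B0) (cD : CoAlg k O D0) (f : B0 →ₐ[k] D0)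
    (hf : ∀ x, cD.ρ (f x) = Algebra.TensorProduct.map f (AlgHom.id k O) (cB.ρ x))
    {ι : Type*} (t : ι → D0) (χ : ι → O) (hχ : ∀ j, IsUnit (χ j)) (ht : ∀ j, cD.ρ (t j) = t j ⊗ₜ χ j)
    (I : Ideal B0) (hI : I.IsRadical)
    (cov : ∀ P : Ideal D0, P.IsPrime → ((∃ j, t j ∉ P) ↔ ¬ I ≤ P.comap f.toRingHom))
    (surj : ∀ P : Ideal B0, P.IsPrime → ¬ I ≤ P → ∃ Q : Ideal D0, Q.IsPrime ∧ Q.comap f.toRingHom = P)
    (fin : ∃ S : Finset B0, (S : Set B0) ⊆ I ∧ I ≤ (Ideal.span (S : Set B0)).radical) :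
    ∃ (N : ℕ) (φ : Fin (N + 1) → B0) (R : Matrix (Fin (N + 1)) (Fin (N + 1)) O), (∀ j, φ j ∈ I) ∧
      I ≤ (Ideal.span (Set.range φ)).radical ∧ (∀ j, cB.ρ (φ j) = ∑ i, φ i ⊗ₜ[k] R i j) ∧ K58.IsMatCo k R := by
  obtain ⟨S, hSI, hS⟩ := fin
  obtain ⟨N, v, R, h1, h2, h3, h4, h5⟩ := K895.P5.exists_matrix (isCo cB)
    (stable_con cB I (stable_of_cov hO cB cD f hf t χ hχ ht I hI cov surj)) S.finite_toSet
    (show (S : Set B0) ⊆ (I.restrictScalars k : Submodule k B0) from hSI)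
  refine ⟨N, Fin.cons 0 v, Matrix.of (Fin.cons (Fin.cons 1 (fun _ => 0)) (fun i => Fin.cons 0 (R i))), ?_, ?_, ?_, ?_⟩
  · intro j
    refine Fin.cases ?_ (fun j => ?_) j
    · simp
    · simpa using h1 j
  · refine hS.trans (Ideal.radical_mono (Ideal.span_le.2 ?_))
    intro x hx
    have h6 : x ∈ Submodule.span k (Set.range v) := h2 hx
    have h7 : Submodule.span k (Set.range v) ≤ (Ideal.span (Set.range (Fin.cons (0 : B0) v))).restrictScalars k := by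
      rw [Submodule.span_le]
      rintro _ ⟨i, rfl⟩
      exact Ideal.subset_span ⟨i.succ, by simp⟩
    exact h7 h6
  · intro j
    refine Fin.cases ?_ (fun j => ?_) j
    · simp [Fin.sum_univ_succ]
    · have := h3 j
      rw [Fin.sum_univ_succ]
      simpa using this
  · constructor
    · intro i j
      refine Fin.cases ?_ (fun i => ?_) i <;> refine Fin.cases ?_ (fun j => ?_) j
      · simp [Fin.sum_univ_succ, Algebra.TensorProduct.one_def]
      · simp [Fin.sum_univ_succ]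
      · simp [Fin.sum_univ_succ]
      · rw [Fin.sum_univ_succ]
        simpa using h4 i j
    · intro i j
      refine Fin.cases ?_ (fun i => ?_) i <;> refine Fin.cases ?_ (fun j => ?_) j
      · simp
      · simp [Fin.succ_ne_zero, (Fin.succ_ne_zero _).symm]
      · simp [Fin.succ_ne_zero]
      · simpa [Fin.succ_inj] using h5 i j

/-- **(b)** with Serre covers instead of a principal ideal domain -/
theorem exists_phi_serre (E : Grp.Gp k) (hS : Grp.SerreCover E) (hO : K542.KeepsRed k E.O)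
    (cB : CoAlg k E.O B0) (cD : CoAlg k E.O D0) (f : B0 →ₐ[k] D0)
    (hf : ∀ x, cD.ρ (f x) = Algebra.TensorProduct.map f (AlgHom.id k E.O) (cB.ρ x))
    {ι : Type*} (t : ι → D0) (χ : ι → E.O) (hχ : ∀ j, IsUnit (χ j)) (ht : ∀ j, cD.ρ (t j) = t j ⊗ₜ χ j)
    (I : Ideal B0) (hI : I.IsRadical)
    (cov : ∀ P : Ideal D0, P.IsPrime → ((∃ j, t j ∉ P) ↔ ¬ I ≤ P.comap f.toRingHom))
    (surj : ∀ P : Ideal B0, P.IsPrime → ¬ I ≤ P → ∃ Q : Ideal D0, Q.IsPrime ∧ Q.comap f.toRingHom = P)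
    (fin : ∃ S : Finset B0, (S : Set B0) ⊆ I ∧ I ≤ (Ideal.span (S : Set B0)).radical) :
    ∃ (N : ℕ) (φ : Fin (N + 1) → B0) (R : Matrix (Fin (N + 1)) (Fin (N + 1)) E.O), (∀ j, φ j ∈ I) ∧
      I ≤ (Ideal.span (Set.range φ)).radical ∧ (∀ j, cB.ρ (φ j) = ∑ i, φ i ⊗ₜ[k] R i j) ∧ K58.IsMatCo k R := by
  obtain ⟨S, hSI, hS'⟩ := fin
  obtain ⟨N, φ, R, h1, h2, h3, h4, h5⟩ := K807.P5.exists_phi_radical E hS hO cB.ρ cB.comod (fun _ => rfl) I
    (rho_mem_radical_of_cov cB cD f hf t χ hχ ht I hI cov surj) S S.finite_toSet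
    (hSI.trans (by rw [hI.radical]))
  refine ⟨N, φ, R, fun j => by rw [← hI.radical]; exact h1 j, ?_, h3, h4, h5⟩
  refine hS'.trans (Ideal.radical_mono (Ideal.span_le.2 ?_))
  intro x hx
  have h7 : Submodule.span k (Set.range φ) ≤ (Ideal.span (Set.range φ)).restrictScalars k := by
    rw [Submodule.span_le]
    rintro _ ⟨i, rfl⟩
    exact Ideal.subset_span ⟨i, rfl⟩
  exact h7 (h2 hx)

end abstract

/-! ### `MidData` -/

section mid

open Groth.Agent.Grpsch.AffGrpd K412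

variable {A B : Type u} [CommRing A] [CommRing B] {Lb : Type u} [CommRing Lb] [Algebra Lb A] {G : RGrpd A B}
  {D : Gen Lb G} {κ : Type u} [Field κ] {x : A →+* κ} {F : FrRing D x} (M : MidData F)
  {O : Type u} [CommRing O] [HopfAlgebra Lb O]

/-- `I` of `MidData` is stable; the functions `φ_j`. -/
theorem exists_phi_mid [IsDomain Lb] [IsPrincipalIdealRing Lb] [Module.Free Lb O] (hO : K542.KeepsRed Lb O)
    [Algebra Lb M.B0] [Algebra Lb M.D0] [IsScalarTower Lb M.B0 M.D0] (cB : CoAlg Lb O M.B0) (cD : CoAlg Lb O M.D0)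
    (hf : ∀ x, cD.ρ (algebraMap M.B0 M.D0 x) =
      Algebra.TensorProduct.map (IsScalarTower.toAlgHom Lb M.B0 M.D0) (AlgHom.id Lb O) (cB.ρ x))
    (χ : (Fin F.r1 → Fin D.n) × (Fin F.rm → (Fin D.m → Fin D.n)) → O) (hχ : ∀ z, IsUnit (χ z))
    (ht : ∀ z, cD.ρ (algebraMap F.R M.D0 (K819.sIJ F z)) = algebraMap F.R M.D0 (K819.sIJ F z) ⊗ₜ χ z) :
    ∃ (N : ℕ) (φ : Fin (N + 1) → M.B0) (R : Matrix (Fin (N + 1)) (Fin (N + 1)) O), (∀ j, φ j ∈ M.I) ∧
      M.I ≤ (Ideal.span (Set.range φ)).radical ∧ (∀ j, cB.ρ (φ j) = ∑ i, φ i ⊗ₜ[Lb] R i j) ∧ K58.IsMatCo Lb R :=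
  exists_phi hO cB cD (IsScalarTower.toAlgHom Lb M.B0 M.D0) hf (fun z => algebraMap F.R M.D0 (K819.sIJ F z)) χ hχ ht
    M.I M.rad M.cov M.surj M.fin

theorem rho_mem_I (hO : K542.KeepsRed Lb O)
    [Algebra Lb M.B0] [Algebra Lb M.D0] [IsScalarTower Lb M.B0 M.D0] (cB : CoAlg Lb O M.B0) (cD : CoAlg Lb O M.D0)
    (hf : ∀ x, cD.ρ (algebraMap M.B0 M.D0 x) =
      Algebra.TensorProduct.map (IsScalarTower.toAlgHom Lb M.B0 M.D0) (AlgHom.id Lb O) (cB.ρ x))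
    (χ : (Fin F.r1 → Fin D.n) × (Fin F.rm → (Fin D.m → Fin D.n)) → O) (hχ : ∀ z, IsUnit (χ z))
    (ht : ∀ z, cD.ρ (algebraMap F.R M.D0 (K819.sIJ F z)) = algebraMap F.R M.D0 (K819.sIJ F z) ⊗ₜ χ z)
    (φ : M.B0) (hφ : φ ∈ M.I) :
    cB.ρ φ ∈ M.I.map (Algebra.TensorProduct.includeLeft (R := Lb) (S := Lb) (A := M.B0) (B := O)) :=
  stable_of_cov hO cB cD (IsScalarTower.toAlgHom Lb M.B0 M.D0) hf (fun z => algebraMap F.R M.D0 (K819.sIJ F z)) χ hχ ht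
    M.I M.rad M.cov M.surj φ hφ

/-- the same with Serre covers -/
theorem exists_phi_mid_serre (E : Grp.Gp Lb) (hS : Grp.SerreCover E) (hO : K542.KeepsRed Lb E.O)
    [Algebra Lb M.B0] [Algebra Lb M.D0] [IsScalarTower Lb M.B0 M.D0] (cB : CoAlg Lb E.O M.B0)
    (cD : CoAlg Lb E.O M.D0)
    (hf : ∀ x, cD.ρ (algebraMap M.B0 M.D0 x) =
      Algebra.TensorProduct.map (IsScalarTower.toAlgHom Lb M.B0 M.D0) (AlgHom.id Lb E.O) (cB.ρ x))
    (χ : (Fin F.r1 → Fin D.n) × (Fin F.rm → (Fin D.m → Fin D.n)) → E.O) (hχ : ∀ z, IsUnit (χ z))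
    (ht : ∀ z, cD.ρ (algebraMap F.R M.D0 (K819.sIJ F z)) = algebraMap F.R M.D0 (K819.sIJ F z) ⊗ₜ χ z) :
    ∃ (N : ℕ) (φ : Fin (N + 1) → M.B0) (R : Matrix (Fin (N + 1)) (Fin (N + 1)) E.O), (∀ j, φ j ∈ M.I) ∧
      M.I ≤ (Ideal.span (Set.range φ)).radical ∧ (∀ j, cB.ρ (φ j) = ∑ i, φ i ⊗ₜ[Lb] R i j) ∧ K58.IsMatCo Lb R :=
  exists_phi_serre E hS hO cB cD (IsScalarTower.toAlgHom Lb M.B0 M.D0) hf
    (fun z => algebraMap F.R M.D0 (K819.sIJ F z)) χ hχ ht M.I M.rad M.cov M.surj M.fin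

end mid

end Groth.Agent.ResProp.EF.K840.M3
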