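import Groth.Agent.ResProp.EF.K412.Asm
import Groth.Agent.ResProp.EF.K840.M3

/-!
# G1, node M3 in the form of `K412/Asm.lean` (helper840)

`O` any Hopf algebra, free over the principal ideal domain `k`.  The functions `φ_j` are taken in the largest subcomodule
`J = {b | ρ_B b ∈ I ⊗ O}` of `I`; `√J = I` because `ρ_B (I) ⊆ √(I ⊗ O)`.

* `exists_phi'` : abstract form, `KeepsRed` is not needed;
* `phiDat` : `Nonempty (PhiDat M c.cB)` for `c : CoMid M hX hXm`.
-/

set_option autoImplicit false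
universe u

open TensorProduct Groth.Agent.ResProp.EF.K83

noncomputable section

namespace Groth.Agent.ResProp.EF.K840.M3

section abstract

variable {k O : Type u} [CommRing k] [CommRing O] [HopfAlgebra k O]
variable {B0 D0 : Type u} [CommRing B0] [Algebra k B0] [CommRing D0] [Algebra k D0]

/-- the largest stable ideal in `I` -/
def core (cB : CoAlg k O B0) (I : Ideal B0) : Ideal B0 :=
  (I.map (Algebra.TensorProduct.includeLeft (R := k) (S := k) (A := B0) (B := O))).comap cB.ρ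

theorem mem_core (cB : CoAlg k O B0) (I : Ideal B0) (b : B0) : b ∈ core cB I ↔
    cB.ρ b ∈ I.map (Algebra.TensorProduct.includeLeft (R := k) (S := k) (A := B0) (B := O)) := Iff.rfl

theorem mem_map_iff (I : Ideal B0) (z : B0 ⊗[k] O) :
    z ∈ I.map (Algebra.TensorProduct.includeLeft (R := k) (S := k) (A := B0) (B := O)) ↔
      ∃ w : (I.restrictScalars k : Submodule k B0) ⊗[k] O, (I.restrictScalars k).subtype.rTensor O w = z := by
  have h := Ideal.map_includeLeft_eq (R := k) (A := B0) (B := O) I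
  have h1 : z ∈ I.map (Algebra.TensorProduct.includeLeft (R := k) (S := k) (A := B0) (B := O)) ↔
      z ∈ (I.map (Algebra.TensorProduct.includeLeft (R := k) (S := k) (A := B0) (B := O))).restrictScalars k := Iff.rfl
  rw [h1, h]
  rfl

theorem core_le (cB : CoAlg k O B0) (I : Ideal B0) : core cB I ≤ I := by
  intro b hb
  obtain ⟨w, hw⟩ := (mem_map_iff I _).1 hb
  have h1 := (isCo cB).counit b
  change K895.P5.con B0 Coalgebra.counit (cB.ρ b) = b at h1
  rw [← hw, K895.P5.con_nat] at h1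
  rw [← h1]
  exact (K895.P5.con _ (Coalgebra.counit (R := k) (A := O)) w).2

theorem stable_core (cB : CoAlg k O B0) (I : Ideal B0) :
    K895.P5.Stable (k := k) (O := O) cB.ρ.toLinearMap ((core cB I).restrictScalars k) := by
  intro g b hb
  obtain ⟨w, hw⟩ := (mem_map_iff I _).1 hb
  change cB.ρ (K895.P5.con B0 g (cB.ρ b)) ∈
    I.map (Algebra.TensorProduct.includeLeft (R := k) (S := k) (A := B0) (B := O))
  rw [mem_map_iff]
  have h1 : K895.P5.con (B0 ⊗[k] O) g (cB.ρ.toLinearMap.rTensor O (cB.ρ b)) =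
      cB.ρ (K895.P5.con B0 g (cB.ρ b)) := K895.P5.con_nat g cB.ρ.toLinearMap (cB.ρ b)
  have h2 : K895.P5.cof B0 (cB.ρ b) = cB.ρ.toLinearMap.rTensor O (cB.ρ b) := (isCo cB).cof_comp b
  refine ⟨K895.P5.con _ g (K895.P5.cof _ w), ?_⟩
  rw [← h1, ← h2, ← hw, ← K895.P5.cof_nat]
  exact (K895.P5.con_nat g ((I.restrictScalars k : Submodule k B0).subtype.rTensor O) (K895.P5.cof _ w)).symm

theorem exists_pow_mem_core (cB : CoAlg k O B0) (I : Ideal B0) {b : B0}
    (hb : cB.ρ b ∈ (I.map (Algebra.TensorProduct.includeLeft (R := k) (S := k) (A := B0) (B := O))).radical) :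
    ∃ n : ℕ, b ^ n ∈ core cB I := by
  obtain ⟨n, hn⟩ := hb
  exact ⟨n, by rw [mem_core, map_pow]; exact hn⟩

/-- **(b)** for every `O` free over the principal ideal domain `k` -/
theorem exists_phi' [IsDomain k] [IsPrincipalIdealRing k] [Module.Free k O]
    (cB : CoAlg k O B0) (I : Ideal B0)
    (hrad : ∀ φ ∈ I, cB.ρ φ ∈
      (I.map (Algebra.TensorProduct.includeLeft (R := k) (S := k) (A := B0) (B := O))).radical)
    (fin : ∃ S : Finset B0, (S : Set B0) ⊆ I ∧ I ≤ (Ideal.span (S : Set B0)).radical) :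
    ∃ (N : ℕ) (φ : Fin (N + 1) → B0) (R : Matrix (Fin (N + 1)) (Fin (N + 1)) O), (∀ j, φ j ∈ I) ∧
      I ≤ (Ideal.span (Set.range φ)).radical ∧ (∀ j, cB.ρ (φ j) = ∑ i, φ i ⊗ₜ[k] R i j) ∧ K58.IsMatCo k R := by
  classical
  obtain ⟨S, hSI, hS⟩ := fin
  have hpow : ∀ b : S, ∃ n : ℕ, (b : B0) ^ n ∈ core cB I := fun b => exists_pow_mem_core cB I (hrad b (hSI b.2))
  choose e he using hpow
  let S' : Set B0 := Set.range fun b : S => (b : B0) ^ e b
  have hS'fin : S'.Finite := Set.finite_range _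
  have hS'J : S' ⊆ ((core cB I).restrictScalars k : Submodule k B0) := by
    rintro _ ⟨b, rfl⟩
    exact he b
  have hSS' : (Ideal.span (S : Set B0)).radical ≤ (Ideal.span S').radical := by
    rw [Ideal.radical_le_radical_iff, Ideal.span_le]
    intro b hb
    exact ⟨e ⟨b, hb⟩, Ideal.subset_span ⟨⟨b, hb⟩, rfl⟩⟩
  obtain ⟨N, v, R, h1, h2, h3, h4, h5⟩ := K895.P5.exists_matrix (isCo cB) (stable_core cB I) hS'fin hS'J
  refine ⟨N, Fin.cons 0 v, Matrix.of (Fin.cons (Fin.cons 1 (fun _ => 0)) (fun i => Fin.cons 0 (R i))), ?_, ?_, ?_, ?_⟩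
  · intro j
    refine Fin.cases ?_ (fun j => ?_) j
    · simp
    · simpa using core_le cB I (h1 j)
  · refine (hS.trans hSS').trans (Ideal.radical_mono (Ideal.span_le.2 ?_))
    intro x hx
    have h6 : x ∈ Submodule.span k (Set.range v) := h2 hx
    have h7 : Submodule.span k (Set.range v) ≤ (Ideal.span (Set.range (Fin.cons (0 : B0) v))).restrictScalars k := by
      rw [Submodule.span_le]
      rintro _ ⟨i, rfl⟩
      exact Ideal.subset_span ⟨i.succ, by simp⟩
    exact h7 h6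
  · intro j
    refine Fin.cases ?_ (fun j => ?_) j
    · simp [Fin.sum_univ_succ]
    · have := h3 j
      rw [Fin.sum_univ_succ]
      simpa using this
  · constructor
    · intro i j
      refine Fin.cases ?_ (fun i => ?_) i <;> refine Fin.cases ?_ (fun j => ?_) j
      · simp [Fin.sum_univ_succ, Algebra.TensorProduct.one_def]
      · simp [Fin.sum_univ_succ]
      · simp [Fin.sum_univ_succ]
      · rw [Fin.sum_univ_succ]
        simpa using h4 i j
    · intro i j
      refine Fin.cases ?_ (fun i => ?_) i <;> refine Fin.cases ?_ (fun j => ?_) j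
      · simp
      · simp [(Fin.succ_ne_zero _).symm]
      · simp [Fin.succ_ne_zero]
      · simpa [Fin.succ_inj] using h5 i j

end abstract

section mid

open Groth.Agent.Grpsch.AffGrpd K412

variable {A B : Type u} [CommRing A] [CommRing B] {Lb : Type u} [CommRing Lb] [Algebra Lb A] {G : RGrpd A B}
  {D : Gen Lb G} {κ : Type u} [Field κ] {x : A →+* κ} {F : FrRing D x} (M : MidData F)
  {O : Type u} [CommRing O] [HopfAlgebra Lb O] {X : Matrix (Fin F.r1) (Fin F.r1) O}
  {Xm : Matrix (Fin F.rm) (Fin F.rm) O}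

/-- `s_IJ` is semi-invariant in `D0` -/
theorem c0_sIJ (hX : K62.IsMulMat Lb X) (hXm : K62.IsMulMat Lb Xm) (c : CoMid M hX hXm)
    (z : (Fin F.r1 → Fin D.n) × (Fin F.rm → (Fin D.m → Fin D.n))) :
    c.c0.ρ (algebraMap F.R M.D0 (K819.sIJ F z)) =
      algebraMap F.R M.D0 (K819.sIJ F z) ⊗ₜ[Lb] K62.chi F X Xm := by
  have h1 : K62.rho F hX hXm (K819.sIJ F z) = K819.sIJ F z ⊗ₜ[Lb] K62.chi F X Xm := K62.rho_sIJ F hX hXm z.1 z.2
  rw [c.c0_R, h1, Algebra.TensorProduct.map_tmul]
  rfl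

/-- `ρ_B (I) ⊆ √(I ⊗ O)` -/
theorem cB_mem_radical (hX : K62.IsMulMat Lb X) (hXm : K62.IsMulMat Lb Xm) (c : CoMid M hX hXm) (φ : M.B0)
    (hφ : φ ∈ M.I) : c.cB.ρ φ ∈
      (M.I.map (Algebra.TensorProduct.includeLeft (R := Lb) (S := Lb) (A := M.B0) (B := O))).radical :=
  rho_mem_radical_of_cov c.cB c.c0 (IsScalarTower.toAlgHom Lb M.B0 M.D0) c.cB_D
    (fun z => algebraMap F.R M.D0 (K819.sIJ F z)) (fun _ => K62.chi F X Xm) (fun _ => K62.isUnit_chi F hX hXm)
    (c0_sIJ M hX hXm c) M.I M.rad M.cov M.surj φ hφ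

/-- **Node M3** (`Lb` a principal ideal domain) -/
theorem phiDat [IsDomain Lb] [IsPrincipalIdealRing Lb] [Module.Free Lb O] (hX : K62.IsMulMat Lb X)
    (hXm : K62.IsMulMat Lb Xm) (c : CoMid M hX hXm) : Nonempty (PhiDat M c.cB) := by
  obtain ⟨N, φ, R, h1, h2, h3, h4⟩ := exists_phi' c.cB M.I (cB_mem_radical M hX hXm c) M.fin
  exact ⟨⟨N, φ, h1, h2, R, h4, h3⟩⟩

end mid

end Groth.Agent.ResProp.EF.K840.M3
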