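import Groth.Agent.ResProp.EF.K819.N4s
import Mathlib.LinearAlgebra.TensorProduct.Vanishing
import Mathlib.RingTheory.Flat.Stability

/-!
# G1, node P2 (second half): the groupoid acts on the points of the frame ring (helper840)

Setting of `K412/Defs.lean`, `K819/N4s.lean`.

* `rel_of_flat` : a relation `∑ c_k ⊗ r_k = 0` over a flat base is killed by every functional which kills the relations
  over `A`;
* `Sb` : a finite family of functions spanning a subcomodule (degree `1`: `c`, degree `m`: the monomials), with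
  `Sb.fun_e`, `Sb.fun_comp`, `Sb.isFun_trans`;
* `IsTrans_refl / trans / symm`, `IsFrC` is preserved by arrows;
* for `F : FrRing D x`: the action `smul` on points and its laws;
* for `a : Arr F R1`: `Arr.rgrpd : RGrpd F.R R1`, the action groupoid; counit, inverse, flatness of `t`.
-/

set_option autoImplicit false
universe u

open Groth.Agent.Grpsch.AffGrpd Groth.Agent.ResProp.EF.K412 Groth.Agent.ResProp.EF.K819 TensorProduct

namespace Groth.Agent.ResProp.EF.K840.FrAct

/-! ### relations over a flat base -/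

/-- a functional on the `A`-span of the `c`: it kills the relations -/
def IsFun {A B K : Type u} [CommRing A] [CommRing B] [CommRing K] {ι : Type} [Fintype ι] (s : A →+* B) (c : ι → B)
    (a : A →+* K) (M : ι → K) : Prop :=
  ∀ u : ι → A, ∑ i, s (u i) * c i = 0 → ∑ i, M i * a (u i) = 0

theorem rel_of_flat {A B U K : Type u} [CommRing A] [CommRing B] [CommRing U] [CommRing K] {ι : Type} [Fintype ι]
    {s : A →+* B} {c : ι → B} (τ : A →+* U) (hτ : τ.Flat) (r : ι → U)
    (hr : ∀ {T : Type u} [CommRing T] (α : B →+* T) (f : U →+* T), α.comp s = f.comp τ → ∑ i, α (c i) * f (r i) = 0)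
    (f : U →+* K) (a : A →+* K) (hf : f.comp τ = a) (M : ι → K) (hM : IsFun s c a M) : ∑ i, M i * f (r i) = 0 := by
  let _ := s.toAlgebra
  let _ := τ.toAlgebra
  have _ : Module.Flat A U := hτ
  have h0 : ∑ i, c i ⊗ₜ[A] r i = (0 : B ⊗[A] U) := by
    have := hr (T := B ⊗[A] U) (Algebra.TensorProduct.includeLeftRingHom)
      (Algebra.TensorProduct.includeRight (R := A) (A := B) (B := U)).toRingHom ?_
    · simpa [Algebra.TensorProduct.tmul_mul_tmul] using this
    · ext x
      simp only [RingHom.coe_comp, Function.comp_apply, AlgHom.toRingHom_eq_coe, RingHom.coe_coe,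
        Algebra.TensorProduct.includeLeftRingHom_apply, Algebra.TensorProduct.includeRight_apply]
      have h1 : s x = algebraMap A B x := rfl
      have h2 : τ x = algebraMap A U x := rfl
      rw [h1, h2, Algebra.algebraMap_eq_smul_one, Algebra.algebraMap_eq_smul_one, TensorProduct.smul_tmul]
  obtain ⟨k, b, y, h1, h2⟩ := vanishesTrivially_of_sum_tmul_eq_zero_of_rTensor_injective A
    (Module.Flat.rTensor_preserves_injective_linearMap (M := U) _ (Submodule.injective_subtype _)) h0
  subst hf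
  have h3 : ∀ j, ∑ i, M i * f (τ (b i j)) = 0 := by
    intro j
    refine hM (fun i => b i j) ?_
    have := h2 j
    simp only [Algebra.smul_def] at this
    exact this
  have h4 : ∀ i, r i = ∑ j, τ (b i j) * y j := by
    intro i
    rw [h1 i]
    simp only [Algebra.smul_def]
    rfl
  calc ∑ i, M i * f (r i) = ∑ i, ∑ j, (M i * f (τ (b i j))) * f (y j) := by
        refine Finset.sum_congr rfl fun i _ => ?_
        rw [h4 i, map_sum, Finset.mul_sum]
        exact Finset.sum_congr rfl fun j _ => by rw [map_mul, mul_assoc]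
    _ = ∑ j, (∑ i, M i * f (τ (b i j))) * f (y j) := by
        rw [Finset.sum_comm]
        exact Finset.sum_congr rfl fun j _ => by rw [Finset.sum_mul]
    _ = 0 := by simp [h3]

/-- pushouts of rings with flatness -/
theorem exists_po {A B C : Type u} [CommRing A] [CommRing B] [CommRing C] (f : A →+* B) (g : A →+* C) :
    ∃ (P : Type u) (_ : CommRing P) (inl : B →+* P) (inr : C →+* P), inl.comp f = inr.comp g ∧
      (∀ {T : Type u} [CommRing T] (b : B →+* T) (c : C →+* T), b.comp f = c.comp g →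
        ∃ r : P →+* T, r.comp inl = b ∧ r.comp inr = c) ∧ (g.Flat → inl.Flat) := by
  let _ := f.toAlgebra
  let _ := g.toAlgebra
  refine ⟨B ⊗[A] C, inferInstance, Algebra.TensorProduct.includeLeftRingHom,
    (Algebra.TensorProduct.includeRight (R := A) (A := B) (B := C)).toRingHom, ?_, ?_, ?_⟩
  · ext x
    simp only [RingHom.coe_comp, Function.comp_apply, AlgHom.toRingHom_eq_coe, RingHom.coe_coe,
      Algebra.TensorProduct.includeLeftRingHom_apply, Algebra.TensorProduct.includeRight_apply]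
    have h1 : f x = algebraMap A B x := rfl
    have h2 : g x = algebraMap A C x := rfl
    rw [h1, h2, Algebra.algebraMap_eq_smul_one, Algebra.algebraMap_eq_smul_one, TensorProduct.smul_tmul]
  · intro T _ b c h
    let _ := (b.comp f).toAlgebra
    let b' : B →ₐ[A] T := { b with commutes' := fun x => rfl }
    let c' : C →ₐ[A] T := { c with commutes' := fun x => (RingHom.congr_fun h x).symm }
    refine ⟨(Algebra.TensorProduct.productMap b' c').toRingHom, ?_, ?_⟩
    · ext x
      simp [b']
    · ext x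
      simp [c']
  · intro hg
    have _ : Module.Flat A C := hg
    exact (RingHom.flat_algebraMap_iff (R := B) (S := B ⊗[A] C)).2 inferInstance

/-! ### elementary laws of `RGrpd` -/

section grpd

variable {A B : Type u} [CommRing A] [CommRing B] (G : RGrpd A B)

section
variable {T : Type u} [CommRing T]

theorem comp_congr {α α' β β' : B →+* T} (h : α.comp G.s = β.comp G.t) (ha : α = α')
    (hb : β = β') : G.comp α β h = G.comp α' β' (by rw [← ha, ← hb, h]) := by
  subst ha hb
  rfl

theorem comp_e' {α ε : B →+* T} (h : α.comp G.s = ε.comp G.t) (hε : ε = (α.comp G.s).comp G.e) :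
    G.comp α ε h = α := by
  subst hε
  exact G.comp_e α

theorem e_comp' {α ε : B →+* T} (h : ε.comp G.s = α.comp G.t) (hε : ε = (α.comp G.t).comp G.e) :
    G.comp ε α h = α := by
  subst hε
  exact G.e_comp α

theorem comp_i' {α β : B →+* T} (h : α.comp G.s = β.comp G.t) (hβ : β = α.comp G.i) :
    G.comp α β h = (α.comp G.t).comp G.e := by
  subst hβ
  exact G.comp_i α

theorem i_comp' {α β : B →+* T} (h : β.comp G.s = α.comp G.t) (hβ : β = α.comp G.i) :
    G.comp β α h = (α.comp G.s).comp G.e := by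
  subst hβ
  exact G.i_comp α

theorem assoc' {α β γ αβ βγ : B →+* T} (h₁ : α.comp G.s = β.comp G.t) (h₂ : β.comp G.s = γ.comp G.t)
    (h₃ : αβ.comp G.s = γ.comp G.t) (h₄ : α.comp G.s = βγ.comp G.t) (e₁ : G.comp α β h₁ = αβ)
    (e₂ : G.comp β γ h₂ = βγ) : G.comp αβ γ h₃ = G.comp α βγ h₄ := by
  subst e₁ e₂
  exact G.assoc α β γ h₁ h₂

/-- right inverses are unique -/
theorem eq_inv {γ δ : B →+* T} (h : γ.comp G.s = δ.comp G.t) (h' : G.comp γ δ h = (γ.comp G.t).comp G.e) :
    δ = γ.comp G.i := by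
  have hs : δ.comp G.s = γ.comp G.t := by
    have := congrArg (fun z => RingHom.comp z G.s) h'
    simp only [G.comp_s, RingHom.comp_assoc, G.e_s, RingHom.comp_id] at this
    exact this
  have h1 : (γ.comp G.i).comp G.s = γ.comp G.t := by rw [RingHom.comp_assoc, G.i_s]
  have h2 : G.comp (γ.comp G.i) γ h1 = (γ.comp G.s).comp G.e := G.i_comp γ
  have h3 := assoc' G h1 h (αβ := (γ.comp G.s).comp G.e) (βγ := (γ.comp G.t).comp G.e)
    (by rw [RingHom.comp_assoc, G.e_s, RingHom.comp_id, h])
    (by rw [RingHom.comp_assoc, RingHom.comp_assoc, G.i_s, G.e_t, RingHom.comp_id]) h2 h'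
  rw [e_comp' G _ (by rw [h]), comp_e' G _ (by rw [h1])] at h3
  exact h3

end

theorem e_i : G.e.comp G.i = G.e := by
  refine (eq_inv G (γ := G.e) (δ := G.e) (by rw [G.e_s, G.e_t]) ?_).symm
  refine comp_e' G _ ?_ |>.trans ?_
  · rw [G.e_s, RingHom.id_comp]
  · rw [G.e_t, RingHom.id_comp]

theorem i_i : G.i.comp G.i = RingHom.id B := by
  have hba : G.i.comp G.s = (RingHom.id B).comp G.t := by rw [G.i_s, RingHom.id_comp]
  refine (eq_inv G (γ := G.i) (δ := RingHom.id B) hba ?_).symm
  rw [i_comp' G hba (by rw [RingHom.id_comp]), G.i_t, RingHom.id_comp]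

theorem i_bijective : Function.Bijective G.i :=
  Function.bijective_iff_has_inverse.2 ⟨G.i, fun x => RingHom.congr_fun (i_i G) x, fun x => RingHom.congr_fun (i_i G) x⟩

theorem t_flat (hs : G.s.Flat) : G.t.Flat := by
  rw [← G.i_s]
  exact RingHom.Flat.comp hs (RingHom.Flat.of_bijective (i_bijective G))

/-- inverse of a composition -/
theorem comp_inv {T : Type u} [CommRing T] (α β : B →+* T) (h : α.comp G.s = β.comp G.t) :
    (G.comp α β h).comp G.i = G.comp (β.comp G.i) (α.comp G.i)
      (by rw [RingHom.comp_assoc, RingHom.comp_assoc, G.i_s, G.i_t, h]) := by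
  have hβα : (β.comp G.i).comp G.s = (α.comp G.i).comp G.t := by
    rw [RingHom.comp_assoc, RingHom.comp_assoc, G.i_s, G.i_t, h]
  have hb : β.comp G.s = (β.comp G.i).comp G.t := by rw [RingHom.comp_assoc, G.i_t]
  have ha : α.comp G.s = (α.comp G.i).comp G.t := by rw [RingHom.comp_assoc, G.i_t]
  have h1 : (G.comp α β h).comp G.s = (G.comp (β.comp G.i) (α.comp G.i) hβα).comp G.t := by
    rw [G.comp_s, G.comp_t, hb]
  refine (eq_inv G h1 ?_).symm
  -- `β (β⁻¹ α⁻¹) = α⁻¹`
  have h2 : G.comp β (G.comp (β.comp G.i) (α.comp G.i) hβα) (hb.trans (G.comp_t _ _ _).symm) = α.comp G.i := by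
    rw [← assoc' G hb hβα (αβ := (β.comp G.t).comp G.e)
      (by rw [RingHom.comp_assoc, G.e_s, RingHom.comp_id, ← h, ha]) _ (comp_i' G hb rfl) rfl]
    exact e_comp' G _ (by rw [← ha, h])
  rw [assoc' G h (hb.trans (G.comp_t _ _ _).symm) h1 ha rfl h2, comp_i' G ha rfl, G.comp_t]

end grpd

/-! ### subcomodules -/

section sb

variable {A B : Type u} [CommRing A] [CommRing B] (G : RGrpd A B)

/-- a finite family spanning a subcomodule -/
structure Sb (ι : Type) [Fintype ι] where
  c : ι → B
  g : ι → ι → B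
  comp_c : ∀ {T : Type u} [CommRing T] (α β : B →+* T) (h : α.comp G.s = β.comp G.t) (j : ι),
    G.comp α β h (c j) = ∑ i, α (c i) * β (g i j)

variable {G} {ι : Type} [Fintype ι] (S : Sb G ι) {K : Type u} [CommRing K] {a : A →+* K} {M : ι → K}

theorem Sb.fun_e [DecidableEq ι] (hM : IsFun G.s S.c a M) (j : ι) : ∑ i, M i * a (G.e (S.g i j)) = M j := by
  have h1 : ∑ i, G.s (G.e (S.g i j) - if i = j then 1 else 0) * S.c i = 0 := by
    have h := S.comp_c (RingHom.id B) ((((RingHom.id B).comp G.s)).comp G.e)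
      (by rw [RingHom.comp_assoc, G.e_t, RingHom.comp_id]) j
    rw [G.comp_e] at h
    simp only [RingHom.id_apply, RingHom.id_comp, RingHom.comp_apply] at h
    simp only [map_sub, sub_mul, Finset.sum_sub_distrib]
    rw [sub_eq_zero]
    calc ∑ i, G.s (G.e (S.g i j)) * S.c i = S.c j := by
          rw [h]
          exact Finset.sum_congr rfl fun i _ => mul_comm _ _
      _ = _ := by simp
  have h2 := hM _ h1
  simp only [map_sub, mul_sub, Finset.sum_sub_distrib, sub_eq_zero] at h2
  rw [h2]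
  simp

theorem Sb.fun_comp (hs : G.s.Flat) (hM : IsFun G.s S.c a M) (β δ : B →+* K) (hβ : β.comp G.t = a)
    (h : β.comp G.s = δ.comp G.t) (j : ι) :
    ∑ k, M k * G.comp β δ h (S.g k j) = ∑ k, M k * ∑ i, β (S.g k i) * δ (S.g i j) := by
  obtain ⟨U, _, inl, inr, hU, hdesc, hflat⟩ := exists_po G.s G.t
  obtain ⟨f, hf1, hf2⟩ := hdesc β δ h
  have h1 := rel_of_flat (s := G.s) (c := S.c) (inl.comp G.t) (RingHom.Flat.comp (t_flat G hs) (hflat (t_flat G hs)))
    (fun k => G.comp inl inr hU (S.g k j) - ∑ i, inl (S.g k i) * inr (S.g i j)) ?_ f a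
    (by rw [← RingHom.comp_assoc, hf1, hβ]) M hM
  · simp only [map_sub, mul_sub, Finset.sum_sub_distrib, sub_eq_zero] at h1
    have h2 : ∀ x, f (G.comp inl inr hU x) = G.comp β δ h x := by
      intro x
      have := RingHom.congr_fun (G.comp_nat f inl inr hU) x
      rw [RingHom.comp_apply] at this
      rw [this]
      exact RingHom.congr_fun (comp_congr G _ hf1 hf2) x
    simp only [h2, map_sum, map_mul] at h1
    rw [h1]
    refine Finset.sum_congr rfl fun k _ => ?_
    congr 1
    refine Finset.sum_congr rfl fun i _ => ?_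
    rw [← hf1, ← hf2]
    rfl
  · intro T _ α f' hα
    have hα1 : α.comp G.s = (f'.comp inl).comp G.t := by rw [hα, RingHom.comp_assoc]
    have hf' : (f'.comp inl).comp G.s = (f'.comp inr).comp G.t := by
      rw [RingHom.comp_assoc, RingHom.comp_assoc, hU]
    have h3 := RingHom.congr_fun (G.assoc α (f'.comp inl) (f'.comp inr) hα1 hf') (S.c j)
    rw [S.comp_c, S.comp_c] at h3
    simp only [S.comp_c] at h3
    have h4 : ∀ x, f' (G.comp inl inr hU x) = G.comp (f'.comp inl) (f'.comp inr) hf' x := fun x =>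
      RingHom.congr_fun (G.comp_nat f' inl inr hU) x
    simp only [map_sub, mul_sub, Finset.sum_sub_distrib, sub_eq_zero, h4, map_sum, map_mul]
    rw [← h3]
    simp only [Finset.sum_mul, Finset.mul_sum, RingHom.comp_apply]
    rw [Finset.sum_comm]
    exact Finset.sum_congr rfl fun i _ => Finset.sum_congr rfl fun k _ => by ring

theorem Sb.isFun_trans (hs : G.s.Flat) (hM : IsFun G.s S.c a M) (γ : B →+* K) (h : γ.comp G.s = a) :
    IsFun G.s S.c (γ.comp G.t) (fun j => ∑ i, M i * γ (G.i (S.g i j))) := by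
  intro u hu
  have h1 := rel_of_flat (s := G.s) (c := S.c) G.t (t_flat G hs)
    (fun i => ∑ j, S.g i j * G.s (u j)) ?_ (γ.comp G.i) a (by rw [RingHom.comp_assoc, G.i_t, h]) M hM
  · calc ∑ j, (∑ i, M i * γ (G.i (S.g i j))) * (γ.comp G.t) (u j)
        = ∑ i, M i * (γ.comp G.i) (∑ j, S.g i j * G.s (u j)) := by
          simp only [Finset.sum_mul, map_sum, Finset.mul_sum, map_mul]
          rw [Finset.sum_comm]
          refine Finset.sum_congr rfl fun i _ => Finset.sum_congr rfl fun j _ => ?_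
          have : G.i (G.s (u j)) = G.t (u j) := RingHom.congr_fun G.i_s (u j)
          simp only [RingHom.comp_apply, this]
          ring
      _ = 0 := h1
  · intro T _ α f hα
    have h2 : (G.comp α f hα) (∑ j, G.s (u j) * S.c j) = 0 := by rw [hu, map_zero]
    rw [map_sum] at h2
    rw [← h2]
    simp only [map_sum, map_mul, Finset.mul_sum, S.comp_c]
    rw [Finset.sum_comm]
    refine Finset.sum_congr rfl fun j _ => Finset.sum_congr rfl fun i _ => ?_
    have : G.comp α f hα (G.s (u j)) = f (G.s (u j)) := RingHom.congr_fun (G.comp_s α f hα) (u j)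
    rw [this]
    ring

end sb

/-! ### framed points -/

section frpt

variable {A B : Type u} [CommRing A] [CommRing B] {Lb : Type u} [CommRing Lb] [Algebra Lb A] {G : RGrpd A B}

/-- degree `1` -/
def sb1 (D : Gen Lb G) : Sb G (Fin D.n) := ⟨D.c, D.g, D.comp_c⟩

/-- degree `m` -/
def sbm (D : Gen Lb G) : Sb G (Fin D.m → Fin D.n) where
  c := mon D.c
  g I J := ∏ k, D.g (I k) (J k)
  comp_c α β h J := by
    simp only [mon, map_prod, D.comp_c, Finset.prod_univ_sum, Fintype.piFinset_univ, Finset.prod_mul_distrib]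

variable {D : Gen Lb G} {r1 rm : ℕ} {K : Type u} [CommRing K] {P P' P'' : FrPt D r1 rm K}

theorem isFun1 (hP : IsFrC P) (b : Fin r1) : IsFun G.s (sb1 D).c P.a (P.M b) := fun u hu => hP.rel1 u hu b

theorem isFunm (hP : IsFrC P) (b : Fin rm) : IsFun G.s (sbm D).c P.a (P.Mm b) := fun u hu => hP.relm u hu b

/-- the identity arrow acts trivially -/
theorem IsTrans_refl (hP : IsFrC P) : IsTrans (P.a.comp G.e) P P where
  src := by rw [RingHom.comp_assoc, G.e_s, RingHom.comp_id]
  tgt := by rw [RingHom.comp_assoc, G.e_t, RingHom.comp_id]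
  hM b j := by
    have h := (sb1 D).fun_e (isFun1 hP b) j
    rw [← h]
    refine Finset.sum_congr rfl fun i _ => ?_
    have : G.e (G.i (D.g i j)) = G.e (D.g i j) := RingHom.congr_fun (e_i G) _
    simp only [RingHom.comp_apply, this]
    rfl
  hMm b J := by
    have h := (sbm D).fun_e (isFunm hP b) J
    rw [← h]
    refine Finset.sum_congr rfl fun I _ => ?_
    simp only [sbm, map_prod, RingHom.comp_apply]
    congr 1
    refine Finset.prod_congr rfl fun k _ => ?_
    have : G.e (G.i (D.g (I k) (J k))) = G.e (D.g (I k) (J k)) := RingHom.congr_fun (e_i G) _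
    rw [this]
  hmu := rfl

/-- arrows preserve the closed conditions -/
theorem isFrC_of_isTrans (hs : G.s.Flat) (hP : IsFrC P) {γ : B →+* K} (h : IsTrans γ P P') : IsFrC P' where
  hmu b J := by
    rw [h.hMm, h.hmu]
    simp only [hP.hmu, h.hM, Finset.sum_mul, Finset.prod_univ_sum, Fintype.piFinset_univ, Finset.mul_sum,
      Finset.prod_mul_distrib]
    rw [Finset.sum_comm]
    exact Finset.sum_congr rfl fun Q _ => Finset.sum_congr rfl fun I _ => by ring
  rel1 u hu b := by
    have h1 := (sb1 D).isFun_trans hs (isFun1 hP b) γ h.src u hu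
    rw [h.tgt] at h1
    rw [← h1]
    exact Finset.sum_congr rfl fun j _ => by rw [h.hM]; rfl
  relm u hu b := by
    have h1 := (sbm D).isFun_trans hs (isFunm hP b) γ h.src u hu
    rw [h.tgt] at h1
    rw [← h1]
    refine Finset.sum_congr rfl fun J _ => ?_
    rw [h.hMm]
    simp only [sbm, map_prod]

/-- composition of arrows -/
theorem IsTrans_trans (hs : G.s.Flat) (hP : IsFrC P) {γ δ : B →+* K} (h1 : IsTrans γ P P') (h2 : IsTrans δ P' P'')
    (h : δ.comp G.s = γ.comp G.t) : IsTrans (G.comp δ γ h) P P'' where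
  src := by rw [G.comp_s, h1.src]
  tgt := by rw [G.comp_t, h2.tgt]
  hM b j := by
    have h3 := (sb1 D).fun_comp hs (isFun1 hP b) (γ.comp G.i) (δ.comp G.i)
      (by rw [RingHom.comp_assoc, G.i_t, h1.src]) (by rw [RingHom.comp_assoc, RingHom.comp_assoc, G.i_s, G.i_t, h]) j
    rw [← comp_inv G δ γ h] at h3
    rw [show (∑ i, P.M b i * (G.comp δ γ h) (G.i (D.g i j))) = ∑ k, P.M b k * ((G.comp δ γ h).comp G.i) ((sb1 D).g k j)
      from rfl, h3, h2.hM]
    simp only [h1.hM, Finset.sum_mul, Finset.mul_sum]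
    rw [Finset.sum_comm]
    exact Finset.sum_congr rfl fun k _ => Finset.sum_congr rfl fun i _ => by
      simp only [RingHom.comp_apply, sb1]; ring
  hMm b J := by
    have h3 := (sbm D).fun_comp hs (isFunm hP b) (γ.comp G.i) (δ.comp G.i)
      (by rw [RingHom.comp_assoc, G.i_t, h1.src]) (by rw [RingHom.comp_assoc, RingHom.comp_assoc, G.i_s, G.i_t, h]) J
    rw [← comp_inv G δ γ h] at h3
    have h4 : (∑ I : Fin D.m → Fin D.n, P.Mm b I * ∏ k, (G.comp δ γ h) (G.i (D.g (I k) (J k)))) =
        ∑ I, P.Mm b I * ((G.comp δ γ h).comp G.i) ((sbm D).g I J) := by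
      refine Finset.sum_congr rfl fun I _ => ?_
      simp only [sbm, map_prod, RingHom.comp_apply]
    rw [h4, h3, h2.hMm]
    simp only [h1.hMm, Finset.sum_mul, Finset.mul_sum]
    rw [Finset.sum_comm]
    refine Finset.sum_congr rfl fun k _ => Finset.sum_congr rfl fun i _ => ?_
    simp only [sbm, map_prod, RingHom.comp_apply]
    ring
  hmu := h2.hmu.trans h1.hmu

/-- inverse arrows -/
theorem IsTrans_symm (hs : G.s.Flat) (hP : IsFrC P) {γ : B →+* K} (h1 : IsTrans γ P P') :
    IsTrans (γ.comp G.i) P' P where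
  src := by rw [RingHom.comp_assoc, G.i_s, h1.tgt]
  tgt := by rw [RingHom.comp_assoc, G.i_t, h1.src]
  hM b j := by
    have hc : (γ.comp G.i).comp G.s = γ.comp G.t := by rw [RingHom.comp_assoc, G.i_s]
    have h3 := (sb1 D).fun_comp hs (isFun1 hP b) (γ.comp G.i) γ
      (by rw [RingHom.comp_assoc, G.i_t, h1.src]) hc j
    rw [i_comp' G hc rfl, h1.src] at h3
    have h5 := (sb1 D).fun_e (isFun1 hP b) j
    have h6 : ∀ y, G.i (G.i y) = y := fun y => RingHom.congr_fun (i_i G) y
    rw [← h5]
    refine h3.trans ?_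
    simp only [h1.hM, Finset.sum_mul, Finset.mul_sum, RingHom.comp_apply, h6]
    rw [Finset.sum_comm]
    exact Finset.sum_congr rfl fun k _ => Finset.sum_congr rfl fun i _ => by
      simp only [sb1]; ring
  hMm b J := by
    have hc : (γ.comp G.i).comp G.s = γ.comp G.t := by rw [RingHom.comp_assoc, G.i_s]
    have h3 := (sbm D).fun_comp hs (isFunm hP b) (γ.comp G.i) γ
      (by rw [RingHom.comp_assoc, G.i_t, h1.src]) hc J
    rw [i_comp' G hc rfl, h1.src] at h3
    have h5 := (sbm D).fun_e (isFunm hP b) J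
    have h6 : ∀ y, G.i (G.i y) = y := fun y => RingHom.congr_fun (i_i G) y
    rw [← h5]
    refine h3.trans ?_
    simp only [h1.hMm, Finset.sum_mul, Finset.mul_sum, RingHom.comp_apply, h6, sbm, map_prod]
    rw [Finset.sum_comm]
    exact Finset.sum_congr rfl fun k _ => Finset.sum_congr rfl fun i _ => by ring
  hmu := h1.hmu.symm

theorem ThetaEq_refl (P : FrPt D r1 rm K) : ThetaEq P P := thetaEq_iff.2 rfl

theorem ThetaEq_symm (h : ThetaEq P P') : ThetaEq P' P := thetaEq_iff.2 (thetaEq_iff.1 h).symm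

theorem ThetaEq_trans (h : ThetaEq P P') (h' : ThetaEq P' P'') : ThetaEq P P'' :=
  thetaEq_iff.2 ((thetaEq_iff.1 h).trans (thetaEq_iff.1 h'))

end frpt

/-! ### the action on points of the frame ring -/

section ring

variable {A B : Type u} [CommRing A] [CommRing B] {Lb : Type u} [CommRing Lb] [Algebra Lb A] {G : RGrpd A B}
  {D : Gen Lb G} {k : Type u} [Field k] {x : A →+* k} {F : FrRing D x} {T : Type u} [CommRing T]

/-- closed conditions at every point -/
theorem isFrC_pt (ψ : F.R →+* T) : IsFrC (F.P.map ψ) where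
  hmu b J := by
    have := congrArg ψ (F.closed.hmu b J)
    simp only [map_sum, map_mul, map_prod] at this
    exact this
  rel1 u hu b := by
    have := congrArg ψ (F.closed.rel1 u hu b)
    simp only [map_sum, map_mul, map_zero] at this
    exact this
  relm u hu b := by
    have := congrArg ψ (F.closed.relm u hu b)
    simp only [map_sum, map_mul, map_zero] at this
    exact this

/-- the transported point is unique -/
theorem act_unique {ψ ψ' ψ'' : F.R →+* T} {γ : B →+* T} (h : IsTrans γ (F.P.map ψ) (F.P.map ψ'))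
    (h' : IsTrans γ (F.P.map ψ) (F.P.map ψ'')) : ψ' = ψ'' := hom_ext (IsTrans_unique h h')

/-- the action of an arrow on a point -/
noncomputable def smul (ψ : F.R →+* T) (γ : B →+* T) (h : γ.comp G.s = ψ.comp F.P.a) : F.R →+* T :=
  (F.act ψ γ h).choose

theorem smul_isTrans (ψ : F.R →+* T) (γ : B →+* T) (h : γ.comp G.s = ψ.comp F.P.a) :
    IsTrans γ (F.P.map ψ) (F.P.map (smul ψ γ h)) := (F.act ψ γ h).choose_spec.1

theorem smul_thetaEq (ψ : F.R →+* T) (γ : B →+* T) (h : γ.comp G.s = ψ.comp F.P.a) :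
    ThetaEq (F.P.map ψ) (F.P.map (smul ψ γ h)) := (F.act ψ γ h).choose_spec.2

theorem smul_eq {ψ ψ' : F.R →+* T} {γ : B →+* T} (h : γ.comp G.s = ψ.comp F.P.a)
    (h' : IsTrans γ (F.P.map ψ) (F.P.map ψ')) : smul ψ γ h = ψ' := act_unique (smul_isTrans ψ γ h) h'

/-- `θ` is constant along arrows -/
theorem thetaEq_of_isTrans {ψ ψ' : F.R →+* T} {γ : B →+* T} (h' : IsTrans γ (F.P.map ψ) (F.P.map ψ')) :
    ThetaEq (F.P.map ψ) (F.P.map ψ') := by
  have h : γ.comp G.s = ψ.comp F.P.a := h'.src
  have := smul_thetaEq ψ γ h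
  rwa [smul_eq h h'] at this

theorem theta_smul (ψ : F.R →+* T) (γ : B →+* T) (h : γ.comp G.s = ψ.comp F.P.a) :
    (smul ψ γ h).comp (theta F.P) = ψ.comp (theta F.P) := by
  have := thetaEq_iff.1 (smul_thetaEq ψ γ h)
  rw [theta_map, theta_map] at this
  exact this.symm

theorem smul_a (ψ : F.R →+* T) (γ : B →+* T) (h : γ.comp G.s = ψ.comp F.P.a) :
    (smul ψ γ h).comp F.P.a = γ.comp G.t := (smul_isTrans ψ γ h).tgt.symm

theorem smul_congr {ψ ψ' : F.R →+* T} {γ γ' : B →+* T} (h : γ.comp G.s = ψ.comp F.P.a) (e : ψ = ψ') (e' : γ = γ') :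
    smul ψ γ h = smul ψ' γ' (by rw [← e, ← e', h]) := by
  subst e e'
  rfl

theorem smul_map {T' : Type u} [CommRing T'] (f : T →+* T') (ψ : F.R →+* T) (γ : B →+* T)
    (h : γ.comp G.s = ψ.comp F.P.a) :
    f.comp (smul ψ γ h) = smul (f.comp ψ) (f.comp γ) (by rw [RingHom.comp_assoc, h, RingHom.comp_assoc]) :=
  (smul_eq _ (IsTrans_map (smul_isTrans ψ γ h) f)).symm

theorem smul_e (ψ : F.R →+* T) {γ : B →+* T} (h : γ.comp G.s = ψ.comp F.P.a) (hγ : γ = (ψ.comp F.P.a).comp G.e) :
    smul ψ γ h = ψ := by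
  subst hγ
  exact smul_eq _ (IsTrans_refl (isFrC_pt ψ))

theorem smul_smul (hs : G.s.Flat) (ψ : F.R →+* T) (γ δ : B →+* T) (h : γ.comp G.s = ψ.comp F.P.a)
    (h' : δ.comp G.s = (smul ψ γ h).comp F.P.a) :
    smul (smul ψ γ h) δ h' = smul ψ (G.comp δ γ (h'.trans (smul_a ψ γ h))) (by rw [G.comp_s, h]) :=
  (smul_eq _ (IsTrans_trans hs (isFrC_pt ψ) (smul_isTrans ψ γ h) (smul_isTrans _ δ h') _)).symm

theorem smul_i (hs : G.s.Flat) (ψ : F.R →+* T) (γ : B →+* T) (h : γ.comp G.s = ψ.comp F.P.a) :
    smul (smul ψ γ h) (γ.comp G.i) (by rw [RingHom.comp_assoc, G.i_s, smul_a]) = ψ :=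
  smul_eq _ (IsTrans_symm hs (isFrC_pt ψ) (smul_isTrans ψ γ h))

end ring

/-! ### the ring of arrows: an affine groupoid over `F.R` -/

section arr

variable {A B : Type u} [CommRing A] [CommRing B] {Lb : Type u} [CommRing Lb] [Algebra Lb A] {G : RGrpd A B}
  {D : Gen Lb G} {k : Type u} [Field k] {x : A →+* k} {F : FrRing D x} {R1 : Type u} [CommRing R1] (a : Arr F R1)
  {T : Type u} [CommRing T]

/-- points of the ring of arrows -/
noncomputable def lift (d : F.R →+* T) (γ : B →+* T) (h : γ.comp G.s = d.comp F.P.a) : R1 →+* T :=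
  (a.desc d γ h).choose

theorem lift_s (d : F.R →+* T) (γ : B →+* T) (h : γ.comp G.s = d.comp F.P.a) : (lift a d γ h).comp a.s = d :=
  (a.desc d γ h).choose_spec.1.1

theorem lift_g (d : F.R →+* T) (γ : B →+* T) (h : γ.comp G.s = d.comp F.P.a) : (lift a d γ h).comp a.g = γ :=
  (a.desc d γ h).choose_spec.1.2

theorem ext_pt {r r' : R1 →+* T} (hs : r.comp a.s = r'.comp a.s) (hg : r.comp a.g = r'.comp a.g) : r = r' := by
  have h : (r'.comp a.g).comp G.s = (r'.comp a.s).comp F.P.a := by rw [RingHom.comp_assoc, a.h, RingHom.comp_assoc]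
  exact (a.desc _ _ h).unique ⟨hs, hg⟩ ⟨rfl, rfl⟩

/-- the target -/
theorem comp_t_eq (r : R1 →+* T) : r.comp a.t = smul (r.comp a.s) (r.comp a.g)
    (by rw [RingHom.comp_assoc, a.h, RingHom.comp_assoc]) :=
  (smul_eq _ (a.isTrans r)).symm

theorem lift_t (d : F.R →+* T) (γ : B →+* T) (h : γ.comp G.s = d.comp F.P.a) : (lift a d γ h).comp a.t = smul d γ h := by
  rw [comp_t_eq]
  exact smul_congr _ (lift_s a d γ h) (lift_g a d γ h)

theorem t_a : a.t.comp F.P.a = a.g.comp G.t := a.tr.tgt.symm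

theorem g_s' (r : R1 →+* T) : (r.comp a.g).comp G.s = (r.comp a.s).comp F.P.a := by
  rw [RingHom.comp_assoc, a.h, RingHom.comp_assoc]

theorem g_t' (r : R1 →+* T) : (r.comp a.g).comp G.t = (r.comp a.t).comp F.P.a := by
  rw [RingHom.comp_assoc, ← t_a, RingHom.comp_assoc]

/-- units -/
noncomputable def eps : R1 →+* F.R :=
  lift a (RingHom.id F.R) (F.P.a.comp G.e) (by rw [RingHom.comp_assoc, G.e_s, RingHom.comp_id, RingHom.id_comp])

theorem eps_s : (eps a).comp a.s = RingHom.id F.R := lift_s a _ _ _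
theorem eps_g : (eps a).comp a.g = F.P.a.comp G.e := lift_g a _ _ _
theorem eps_t : (eps a).comp a.t = RingHom.id F.R := by
  rw [eps, lift_t]
  exact smul_e _ _ (by rw [RingHom.id_comp])

/-- composition of arrows on points: `α` after `β` -/
noncomputable def mul (α β : R1 →+* T) (h : α.comp a.s = β.comp a.t) : R1 →+* T :=
  lift a (β.comp a.s) (G.comp (α.comp a.g) (β.comp a.g) (by rw [g_s', g_t', h])) (by rw [G.comp_s, g_s'])

theorem mul_s (α β : R1 →+* T) (h : α.comp a.s = β.comp a.t) : (mul a α β h).comp a.s = β.comp a.s := lift_s a _ _ _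

theorem mul_g (α β : R1 →+* T) (h : α.comp a.s = β.comp a.t) :
    (mul a α β h).comp a.g = G.comp (α.comp a.g) (β.comp a.g) (by rw [g_s', g_t', h]) := lift_g a _ _ _

theorem mul_t (hs : G.s.Flat) (α β : R1 →+* T) (h : α.comp a.s = β.comp a.t) :
    (mul a α β h).comp a.t = α.comp a.t := by
  rw [mul, lift_t, comp_t_eq a α]
  have h1 : α.comp a.s = smul (β.comp a.s) (β.comp a.g) (g_s' a β) := by rw [h, comp_t_eq]
  rw [smul_congr _ h1 rfl, smul_smul hs]

theorem mul_congr {α α' β β' : R1 →+* T} (h : α.comp a.s = β.comp a.t) (e : α = α') (e' : β = β') :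
    mul a α β h = mul a α' β' (by rw [← e, ← e', h]) := by
  subst e e'
  rfl

theorem mul_nat {T' : Type u} [CommRing T'] (f : T →+* T') (α β : R1 →+* T) (h : α.comp a.s = β.comp a.t) :
    f.comp (mul a α β h) = mul a (f.comp α) (f.comp β) (by rw [RingHom.comp_assoc, h, RingHom.comp_assoc]) := by
  apply ext_pt a
  · rw [RingHom.comp_assoc, mul_s, mul_s, RingHom.comp_assoc]
  · rw [RingHom.comp_assoc, mul_g, mul_g, G.comp_nat]
    rfl

/-- inverses -/
noncomputable def inv : R1 →+* R1 :=
  lift a a.t (a.g.comp G.i) (by rw [RingHom.comp_assoc, G.i_s, t_a])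

theorem inv_s : (inv a).comp a.s = a.t := lift_s a _ _ _
theorem inv_g : (inv a).comp a.g = a.g.comp G.i := lift_g a _ _ _
theorem inv_t (hs : G.s.Flat) : (inv a).comp a.t = a.s := by
  rw [inv, lift_t]
  have h1 : a.t = smul a.s a.g a.h := by
    have := comp_t_eq a (RingHom.id R1)
    simpa only [RingHom.id_comp] using this
  rw [smul_congr _ h1 rfl]
  exact smul_i hs _ _ _

/-- **the action groupoid of `G` on the frame ring** -/
noncomputable def rgrpd (hs : G.s.Flat) : RGrpd F.R R1 where
  s := a.s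
  t := a.t
  e := eps a
  i := inv a
  comp α β h := mul a α β h
  comp_s α β h := mul_s a α β h
  comp_t α β h := mul_t a hs α β h
  comp_nat f α β h := mul_nat a f α β h
  assoc α β γ h₁ h₂ := by
    apply ext_pt a
    · rw [mul_s, mul_s, mul_s]
    · refine (mul_g a _ _ _).trans (Eq.trans ?_ (mul_g a _ _ _).symm)
      exact assoc' G _ _ _ _ (mul_g a _ _ _).symm (mul_g a _ _ _).symm
  e_s := eps_s a
  e_t := eps_t a
  comp_e α := by
    apply ext_pt a
    · rw [mul_s, RingHom.comp_assoc, eps_s, RingHom.comp_id]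
    · rw [mul_g]
      apply comp_e'
      rw [RingHom.comp_assoc, eps_g, ← RingHom.comp_assoc, g_s']
  e_comp α := by
    apply ext_pt a
    · rw [mul_s]
    · rw [mul_g]
      apply e_comp'
      rw [RingHom.comp_assoc, eps_g, ← RingHom.comp_assoc, g_t']
  i_s := inv_s a
  i_t := inv_t a hs
  comp_i α := by
    apply ext_pt a
    · rw [mul_s, RingHom.comp_assoc, inv_s, RingHom.comp_assoc, eps_s, RingHom.comp_id]
    · rw [mul_g, comp_i' G _ (by rw [RingHom.comp_assoc, inv_g, RingHom.comp_assoc]), RingHom.comp_assoc a.g (eps a),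
        eps_g, ← RingHom.comp_assoc, g_t']
  i_comp α := by
    apply ext_pt a
    · rw [mul_s, RingHom.comp_assoc a.s (eps a), eps_s, RingHom.comp_id]
    · rw [mul_g, i_comp' G _ (by rw [RingHom.comp_assoc, inv_g, RingHom.comp_assoc]), RingHom.comp_assoc a.g (eps a),
        eps_g, ← RingHom.comp_assoc, g_s']

@[simp] theorem rgrpd_s (hs : G.s.Flat) : (rgrpd a hs).s = a.s := rfl
@[simp] theorem rgrpd_t (hs : G.s.Flat) : (rgrpd a hs).t = a.t := rfl
@[simp] theorem rgrpd_e (hs : G.s.Flat) : (rgrpd a hs).e = eps a := rfl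
@[simp] theorem rgrpd_i (hs : G.s.Flat) : (rgrpd a hs).i = inv a := rfl

theorem inv_inv (hs : G.s.Flat) : (inv a).comp (inv a) = RingHom.id R1 := i_i (rgrpd a hs)

theorem inv_bijective (hs : G.s.Flat) : Function.Bijective (inv a) := i_bijective (rgrpd a hs)

/-- every property of `G.s` stable under base change and composition with isomorphisms holds for `a.t` -/
theorem t_stable {Q : ∀ {R S : Type u} [CommRing R] [CommRing S], (R →+* S) → Prop}
    (hQ : RingHom.IsStableUnderBaseChange Q) (hi : RingHom.RespectsIso Q) (hs : G.s.Flat) (h : Q G.s) : Q a.t := by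
  rw [← inv_s a]
  exact hi.1 a.s (RingEquiv.ofBijective _ (inv_bijective a hs)) (a.stable hQ h)

theorem t_flat' (hs : G.s.Flat) : a.t.Flat := t_flat (rgrpd a hs) (a.flat hs)

theorem t_finiteType (hs : G.s.Flat) (hf : G.s.FiniteType) : a.t.FiniteType := by
  rw [← inv_s a]
  exact RingHom.FiniteType.comp (RingHom.FiniteType.of_surjective _ (inv_bijective a hs).2) (a.finiteType hf)

theorem s_injective : Function.Injective a.s :=
  Function.LeftInverse.injective (g := eps a) fun y => RingHom.congr_fun (eps_s a) y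

theorem t_injective : Function.Injective a.t :=
  Function.LeftInverse.injective (g := eps a) fun y => RingHom.congr_fun (eps_t a) y

theorem comap_s_surjective : Function.Surjective (PrimeSpectrum.comap a.s) := by
  intro p
  refine ⟨PrimeSpectrum.comap (eps a) p, ?_⟩
  rw [← PrimeSpectrum.comap_comp_apply, eps_s]
  rfl

theorem comap_t_surjective : Function.Surjective (PrimeSpectrum.comap a.t) := by
  intro p
  refine ⟨PrimeSpectrum.comap (eps a) p, ?_⟩
  rw [← PrimeSpectrum.comap_comp_apply, eps_t]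
  rfl

end arr

end Groth.Agent.ResProp.EF.K840.FrAct
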