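import Mathlib

/-!
# Galois property: local on the base, stable under base change (EF / cover datum, 743's step (5))

`B → O` an algebra, `F s : O → E` two maps (the two arrows `i`, `ρ` of a groupoid action) agreeing on `B`.
If over every `B[1/f]`, `f ∈ s`, `O` is faithfully flat and `O ⊗_B O → E` becomes bijective, then for every `B`-algebra
`C` in which `s` generates the unit ideal, `C ⊗ O` is faithfully flat over `C` and `(C ⊗ O) ⊗_C (C ⊗ O) → C ⊗ E` is
bijective.
-/

set_option autoImplicit false

universe u

open TensorProduct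

namespace Groth.Agent.ResProp.EF.K840

section mod

variable {B C : Type u} [CommRing B] [CommRing C] [Algebra B C]
  {M N : Type u} [AddCommGroup M] [Module B M] [AddCommGroup N] [Module B N] (φ : M →ₗ[B] N)

/-- A map which is bijective after `- ⊗ B'` stays bijective after `- ⊗ C'` for every `B'`-algebra `C'`. -/
theorem bijective_lTensor_of_tower {B' C' : Type u} [CommRing B'] [Algebra B B'] [CommRing C'] [Algebra B C']
    [Algebra B' C'] [IsScalarTower B B' C'] (h : Function.Bijective (φ.lTensor B')) :
    Function.Bijective (φ.lTensor C') := by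
  let e : B' ⊗[B] M ≃ₗ[B'] B' ⊗[B] N :=
    LinearEquiv.ofBijective (AlgebraTensorModule.lTensor B' B' φ) h
  let e1 : C' ⊗[B] M ≃ₗ[B'] C' ⊗[B'] (B' ⊗[B] M) := (AlgebraTensorModule.cancelBaseChange B B' B' C' M).symm
  let e2 : C' ⊗[B] N ≃ₗ[B'] C' ⊗[B'] (B' ⊗[B] N) := (AlgebraTensorModule.cancelBaseChange B B' B' C' N).symm
  let g : C' ⊗[B'] (B' ⊗[B] M) ≃ₗ[B'] C' ⊗[B'] (B' ⊗[B] N) := e.lTensor C'
  have key : (φ.lTensor C' : C' ⊗[B] M → C' ⊗[B] N) = fun x => e2.symm (g (e1 x)) := by
    have : (φ.lTensor C') = ((e1.trans g).trans e2.symm).toLinearMap.restrictScalars B := by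
      apply TensorProduct.ext'
      intro c m
      have he : e ((1 : B') ⊗ₜ[B] m) = (1 : B') ⊗ₜ[B] φ m := rfl
      have h1 : e1 (c ⊗ₜ[B] m) = c ⊗ₜ[B'] ((1 : B') ⊗ₜ[B] m) := by simp [e1]
      have h2 : g (c ⊗ₜ[B'] ((1 : B') ⊗ₜ[B] m)) = c ⊗ₜ[B'] ((1 : B') ⊗ₜ[B] φ m) := by
        simp only [g, LinearEquiv.lTensor_tmul, he]
      have h3 : e2.symm (c ⊗ₜ[B'] ((1 : B') ⊗ₜ[B] φ m)) = c ⊗ₜ[B] φ m := by simp [e2]
      calc φ.lTensor C' (c ⊗ₜ[B] m) = c ⊗ₜ[B] φ m := rfl
        _ = e2.symm (g (e1 (c ⊗ₜ[B] m))) := by rw [h1, h2, h3]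
    ext x
    exact DFunLike.congr_fun this x
  rw [key]
  exact ((e1.trans g).trans e2.symm).bijective

/-- Bijectivity after base change to `C`, tested over the `B[1/f]`, `f ∈ s`, if `s` generates the unit ideal of `C`. -/
theorem bijective_lTensor_of_span (s : Set B) (hs : Ideal.span (algebraMap B C '' s) = ⊤)
    (h : ∀ f ∈ s, Function.Bijective (φ.lTensor (Localization.Away f))) :
    Function.Bijective (φ.lTensor C) := by
  have key : Function.Bijective (AlgebraTensorModule.lTensor C C φ) := by
    refine bijective_of_isLocalized_span (algebraMap B C '' s) hs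
      (fun r => (Localization.Away r.1) ⊗[B] M)
      (fun r => AlgebraTensorModule.rTensor B M (Algebra.linearMap C (Localization.Away r.1)))
      (fun r => (Localization.Away r.1) ⊗[B] N)
      (fun r => AlgebraTensorModule.rTensor B N (Algebra.linearMap C (Localization.Away r.1)))
      (AlgebraTensorModule.lTensor C C φ) ?_
    rintro ⟨r, f, hf, rfl⟩
    rw [IsLocalizedModule.map_lTensor]
    let _ : Algebra (Localization.Away f) (Localization.Away (algebraMap B C f)) :=
      (IsLocalization.Away.lift f (g := algebraMap B (Localization.Away (algebraMap B C f)))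
        (by
          rw [IsScalarTower.algebraMap_apply B C (Localization.Away (algebraMap B C f))]
          exact IsLocalization.Away.algebraMap_isUnit _)).toAlgebra
    have : IsScalarTower B (Localization.Away f) (Localization.Away (algebraMap B C f)) := by
      refine IsScalarTower.of_algebraMap_eq' ?_
      exact (IsLocalization.Away.lift_comp f _).symm
    exact bijective_lTensor_of_tower φ (h f hf)
  exact key

/-- Faithful flatness after base change to `C`, tested over the `B[1/f]`, `f ∈ s`, if `s` generates the unit ideal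
of `C`. -/
theorem faithfullyFlat_of_span (s : Set B) (hs : Ideal.span (algebraMap B C '' s) = ⊤)
    (h : ∀ f ∈ s, Module.FaithfullyFlat (Localization.Away f) ((Localization.Away f) ⊗[B] M)) :
    Module.FaithfullyFlat C (C ⊗[B] M) := by
  have hflat : Module.Flat C (C ⊗[B] M) := by
    refine Module.flat_of_isLocalized_span (R := C) (S := C) (C ⊗[B] M) (algebraMap B C '' s) hs
      (fun r => (Localization.Away r.1) ⊗[B] M)
      (fun r => AlgebraTensorModule.rTensor B M (Algebra.linearMap C (Localization.Away r.1))) ?_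
    rintro ⟨r, f, hf, rfl⟩
    let _ : Algebra (Localization.Away f) (Localization.Away (algebraMap B C f)) :=
      (IsLocalization.Away.lift f (g := algebraMap B (Localization.Away (algebraMap B C f)))
        (by
          rw [IsScalarTower.algebraMap_apply B C (Localization.Away (algebraMap B C f))]
          exact IsLocalization.Away.algebraMap_isUnit _)).toAlgebra
    have : IsScalarTower B (Localization.Away f) (Localization.Away (algebraMap B C f)) := by
      refine IsScalarTower.of_algebraMap_eq' ?_
      exact (IsLocalization.Away.lift_comp f _).symm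
    have := h f hf
    have h1 : Module.Flat (Localization.Away (algebraMap B C f))
        ((Localization.Away (algebraMap B C f)) ⊗[B] M) :=
      Module.Flat.of_linearEquiv (AlgebraTensorModule.cancelBaseChange B (Localization.Away f)
        (Localization.Away (algebraMap B C f)) (Localization.Away (algebraMap B C f)) M).symm
    have h2 : Module.Flat C (Localization.Away (algebraMap B C f)) :=
      IsLocalization.flat _ (Submonoid.powers (algebraMap B C f))
    exact Module.Flat.trans C (Localization.Away (algebraMap B C f)) _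
  refine Module.FaithfullyFlat.mk fun m hm htop => ?_
  -- some `f` is not in `m`
  obtain ⟨f, hf, hfm⟩ : ∃ f ∈ s, algebraMap B C f ∉ m := by
    by_contra hcon
    push Not at hcon
    apply hm.ne_top
    rw [eq_top_iff, ← hs, Ideal.span_le]
    rintro _ ⟨f, hf, rfl⟩
    exact hcon f hf
  have := h f hf
  have hu : IsUnit (algebraMap B (C ⧸ m) f) := by
    rw [IsScalarTower.algebraMap_apply B C (C ⧸ m)]
    let _ := Ideal.Quotient.field m
    exact IsUnit.mk0 _ (fun h0 => hfm (Ideal.Quotient.eq_zero_iff_mem.mp h0))
  let _ : Algebra (Localization.Away f) (C ⧸ m) := (IsLocalization.Away.lift f hu).toAlgebra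
  have : IsScalarTower B (Localization.Away f) (C ⧸ m) := by
    refine IsScalarTower.of_algebraMap_eq' ?_
    exact (IsLocalization.Away.lift_comp f _).symm
  have hnt : Nontrivial (C ⧸ m) := Ideal.Quotient.nontrivial_iff.mpr hm.ne_top
  have hn : Nontrivial ((C ⧸ m) ⊗[Localization.Away f] ((Localization.Away f) ⊗[B] M)) := inferInstance
  have hn2 : Nontrivial ((C ⧸ m) ⊗[B] M) :=
    (AlgebraTensorModule.cancelBaseChange B (Localization.Away f) (Localization.Away f) (C ⧸ m) M).symm.toEquiv.nontrivial
  have e : (C ⧸ m) ⊗[C] (C ⊗[B] M) ≃ₗ[C] (C ⧸ m) ⊗[B] M :=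
    AlgebraTensorModule.cancelBaseChange B C C (C ⧸ m) M
  have hn3 : Nontrivial ((C ⧸ m) ⊗[C] (C ⊗[B] M)) := e.toEquiv.nontrivial
  have hn4 : Nontrivial ((C ⊗[B] M) ⧸ (m • (⊤ : Submodule C (C ⊗[B] M)))) :=
    (quotTensorEquivQuotSMul (C ⊗[B] M) m).symm.toEquiv.nontrivial
  rw [htop] at hn4
  exact not_subsingleton _ (Submodule.Quotient.subsingleton_iff.mpr (rfl : (⊤ : Submodule C (C ⊗[B] M)) = ⊤))

end mod

section gal

variable {B C O E : Type u} [CommRing B] [CommRing C] [CommRing O] [CommRing E]
  [Algebra B C] [Algebra B O] [Algebra B E]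

/-- The canonical map `O ⊗_B O → E`, `x ⊗ y ↦ i x * r y`. -/
noncomputable abbrev galMap (i r : O →ₐ[B] E) : O ⊗[B] O →ₐ[B] E := Algebra.TensorProduct.lift i r (fun _ _ => Commute.all _ _)

/-- Base change of `galMap`: under `(C ⊗ O) ⊗_C (C ⊗ O) = C ⊗ (O ⊗ O)`, the canonical map of
`C ⊗ i, C ⊗ r : C ⊗ O → C ⊗ E` is `C ⊗ galMap i r`. -/
theorem galMap_baseChange (i r : O →ₐ[B] E) (x y : C ⊗[B] O) :
    galMap (Algebra.TensorProduct.map (AlgHom.id C C) i) (Algebra.TensorProduct.map (AlgHom.id C C) r)
      (x ⊗ₜ[C] y) =
    (galMap i r).toLinearMap.lTensor C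
      ((AlgebraTensorModule.distribBaseChange B C O O).symm (x ⊗ₜ[C] y)) := by
  induction x using TensorProduct.induction_on with
  | zero => simp
  | add a b ha hb => simp only [TensorProduct.add_tmul, map_add, ha, hb]
  | tmul c a =>
    induction y using TensorProduct.induction_on with
    | zero => simp
    | add a b ha hb => simp only [TensorProduct.tmul_add, map_add, ha, hb]
    | tmul d b =>
      simp [galMap]

/-- **Galois property, local on the base and stable under base change.** -/
theorem galois_baseChange (i r : O →ₐ[B] E) (s : Set B) (hs : Ideal.span (algebraMap B C '' s) = ⊤)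
    (hff : ∀ f ∈ s, Module.FaithfullyFlat (Localization.Away f) ((Localization.Away f) ⊗[B] O))
    (hgal : ∀ f ∈ s, Function.Bijective ((galMap i r).toLinearMap.lTensor (Localization.Away f))) :
    Module.FaithfullyFlat C (C ⊗[B] O) ∧
    Function.Bijective (galMap (Algebra.TensorProduct.map (AlgHom.id C C) i)
      (Algebra.TensorProduct.map (AlgHom.id C C) r)) := by
  refine ⟨faithfullyFlat_of_span s hs hff, ?_⟩
  have h := bijective_lTensor_of_span (C := C) (galMap i r).toLinearMap s hs hgal
  have key : (galMap (Algebra.TensorProduct.map (AlgHom.id C C) i)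
      (Algebra.TensorProduct.map (AlgHom.id C C) r) : (C ⊗[B] O) ⊗[C] (C ⊗[B] O) → C ⊗[B] E) =
      fun z => (galMap i r).toLinearMap.lTensor C
        ((AlgebraTensorModule.distribBaseChange B C O O).symm z) := by
    ext z
    induction z using TensorProduct.induction_on with
    | zero => simp only [map_zero]
    | add a b ha hb => simp only [map_add, ha, hb]
    | tmul x y => exact galMap_baseChange i r x y
  rw [key]
  exact h.comp (AlgebraTensorModule.distribBaseChange B C O O).symm.bijective

end gal

end Groth.Agent.ResProp.EF.K840
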