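import Groth.Agent.ResProp.EF.K412.AlgA
import Groth.Agent.ResProp.EF.K412.Out
import Groth.Agent.ResProp.EF.K128.Conerve
import Groth.Agent.ResProp.EF.K819.MidSheafy
import Groth.Agent.ResProp.EF.K840.FrAct
import Groth.Agent.ResProp.EF.K58.Frame

/-!
# G1, node Z1a (second seat, helper840): the actions on `D0` and on the frame algebra over `D0`

* `RAct G D R1` : a right action of the affine groupoid `G` on `D`, ring level, `R1 = D ⊗_(A,s) B`;
* `ofMid` : the action on `D0` of `MidData` (associativity: universal case, `K478.IsSec.hom_ext`);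
* `RAct.fr` : the action on `Fr i₀ φ` for an invariant column `φ`;
* `RAct.actD` : 128's `ActD`; `exists_actD_mid`, `exists_actD_fr`.
-/

set_option autoImplicit false
universe u

open CategoryTheory CategoryTheory.Limits Opposite
open Groth.Agent.Grpsch.AffGrpd EF56 K784.BC K784.PM K741.RP

noncomputable section

namespace Groth.Agent.ResProp.EF.K840.Z1a

/-! ### ring level actions -/

section ract

variable {A B : Type u} [CommRing A] [CommRing B] (G : RGrpd A B)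

/-- a right action of `G` on `D` -/
structure RAct (D R1 : Type u) [CommRing D] [CommRing R1] where
  p : A →+* D
  σ : D →+* R1
  τ : D →+* R1
  g : B →+* R1
  hg : g.comp G.s = σ.comp p
  po : ∀ {T : Type u} [CommRing T] (d : D →+* T) (γ : B →+* T), γ.comp G.s = d.comp p →
    ∃! r : R1 →+* T, r.comp σ = d ∧ r.comp g = γ
  ht : g.comp G.t = τ.comp p
  assoc : ∀ {T : Type u} [CommRing T] (r r' r'' : R1 →+* T) (hc : (r'.comp g).comp G.s = (r.comp g).comp G.t),
    r'.comp σ = r.comp τ → r''.comp σ = r.comp σ → r''.comp g = G.comp (r'.comp g) (r.comp g) hc →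
    r''.comp τ = r'.comp τ

variable {G} {D R1 : Type u} [CommRing D] [CommRing R1]

theorem RAct.hc (a : RAct G D R1) {T : Type u} [CommRing T] {r r' : R1 →+* T} (h : r'.comp a.σ = r.comp a.τ) :
    (r'.comp a.g).comp G.s = (r.comp a.g).comp G.t := by
  rw [RingHom.comp_assoc, RingHom.comp_assoc, a.hg, a.ht, ← RingHom.comp_assoc, ← RingHom.comp_assoc, h]

/-- the action on the frame algebra of an invariant column -/
def RAct.fr (a : RAct G D R1) {n : Type} [Fintype n] [DecidableEq n] (i₀ : n) {φ : n → D} {φ1 : n → R1}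
    (hσ : ∀ i, a.σ (φ i) = φ1 i) (hτ : ∀ i, a.τ (φ i) = φ1 i) : RAct G (K58.Fr i₀ φ) (K58.Fr i₀ φ1) where
  p := (algebraMap D (K58.Fr i₀ φ)).comp a.p
  σ := K58.Fr.map a.σ hσ
  τ := K58.Fr.map a.τ hτ
  g := (algebraMap R1 (K58.Fr i₀ φ1)).comp a.g
  hg := by
    rw [RingHom.comp_assoc, a.hg, ← RingHom.comp_assoc, ← RingHom.comp_assoc, K58.Fr.map_comp_algebraMap]
  ht := by
    rw [RingHom.comp_assoc, a.ht, ← RingHom.comp_assoc, ← RingHom.comp_assoc, K58.Fr.map_comp_algebraMap]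
  po := by
    intro T _ d γ h
    have h0 : γ.comp G.s = (d.comp (algebraMap D (K58.Fr i₀ φ))).comp a.p := h
    obtain ⟨r0, ⟨h1, h2⟩, h3⟩ := a.po (d.comp (algebraMap D (K58.Fr i₀ φ))) γ h0
    have hdet : IsUnit ((K58.mat i₀ φ).map d).det := by
      rw [← RingHom.mapMatrix_apply, ← RingHom.map_det]
      exact (K58.isUnit_det_mat i₀ φ).map d
    have hcol : ∀ i, ((K58.mat i₀ φ).map d) i i₀ = r0 (φ1 i) := by
      intro i
      rw [Matrix.map_apply, K58.mat_col, ← hσ]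
      exact (RingHom.congr_fun h1 (φ i)).symm
    refine ⟨K58.Fr.lift r0 ((K58.mat i₀ φ).map d) hdet hcol, ⟨?_, ?_⟩, ?_⟩
    · refine K58.Fr.hom_ext ?_ ?_
      · rw [RingHom.comp_assoc, K58.Fr.map_comp_algebraMap, ← RingHom.comp_assoc, K58.Fr.lift_comp, h1]
      · have e : (K58.mat i₀ φ).map ((K58.Fr.lift r0 ((K58.mat i₀ φ).map d) hdet hcol).comp (K58.Fr.map a.σ hσ)) =
            ((K58.mat i₀ φ).map (K58.Fr.map (i₀ := i₀) a.σ hσ)).map
              (K58.Fr.lift r0 ((K58.mat i₀ φ).map d) hdet hcol) := rfl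
        rw [e, K58.Fr.map_mat, K58.Fr.lift_mat]
    · rw [← RingHom.comp_assoc, K58.Fr.lift_comp, h2]
    · rintro r ⟨hr1, hr2⟩
      refine K58.Fr.hom_ext ?_ ?_
      · rw [K58.Fr.lift_comp]
        refine h3 _ ⟨?_, ?_⟩
        · rw [RingHom.comp_assoc, ← K58.Fr.map_comp_algebraMap (i₀ := i₀) a.σ hσ, ← RingHom.comp_assoc, hr1]
        · rw [RingHom.comp_assoc, hr2]
      · rw [K58.Fr.lift_mat, ← hr1, ← K58.Fr.map_mat (i₀ := i₀) a.σ hσ]
        rfl
  assoc := by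
    intro T _ r r' r'' hc h1 h2 h3
    have m1 : (K58.mat i₀ φ1).map r' = (K58.mat i₀ φ1).map r := by
      rw [← K58.Fr.map_mat (i₀ := i₀) a.σ hσ]
      have e1 : ((K58.mat i₀ φ).map (K58.Fr.map (i₀ := i₀) a.σ hσ)).map r' =
        (K58.mat i₀ φ).map (r'.comp (K58.Fr.map a.σ hσ)) := rfl
      rw [e1, h1]
      have e2 : (K58.mat i₀ φ).map (r.comp (K58.Fr.map a.τ hτ)) =
        ((K58.mat i₀ φ).map (K58.Fr.map (i₀ := i₀) a.τ hτ)).map r := rfl
      rw [e2, K58.Fr.map_mat, K58.Fr.map_mat]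
    have m2 : (K58.mat i₀ φ1).map r'' = (K58.mat i₀ φ1).map r := by
      rw [← K58.Fr.map_mat (i₀ := i₀) a.σ hσ]
      have e1 : ((K58.mat i₀ φ).map (K58.Fr.map (i₀ := i₀) a.σ hσ)).map r'' =
        (K58.mat i₀ φ).map (r''.comp (K58.Fr.map a.σ hσ)) := rfl
      rw [e1, h2]
      rfl
    refine K58.Fr.hom_ext ?_ ?_
    · rw [RingHom.comp_assoc, RingHom.comp_assoc, K58.Fr.map_comp_algebraMap, ← RingHom.comp_assoc,
        ← RingHom.comp_assoc]
      refine a.assoc (r.comp (algebraMap R1 (K58.Fr i₀ φ1))) (r'.comp (algebraMap R1 (K58.Fr i₀ φ1)))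
        (r''.comp (algebraMap R1 (K58.Fr i₀ φ1))) hc ?_ ?_ h3
      · have := congrArg (fun f => f.comp (algebraMap D (K58.Fr i₀ φ))) h1
        simp only [RingHom.comp_assoc, K58.Fr.map_comp_algebraMap] at this
        exact this
      · have := congrArg (fun f => f.comp (algebraMap D (K58.Fr i₀ φ))) h2
        simp only [RingHom.comp_assoc, K58.Fr.map_comp_algebraMap] at this
        exact this
    · have e1 : (K58.mat i₀ φ).map (r''.comp (K58.Fr.map a.τ hτ)) =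
        ((K58.mat i₀ φ).map (K58.Fr.map (i₀ := i₀) a.τ hτ)).map r'' := rfl
      have e2 : (K58.mat i₀ φ).map (r'.comp (K58.Fr.map a.τ hτ)) =
        ((K58.mat i₀ φ).map (K58.Fr.map (i₀ := i₀) a.τ hτ)).map r' := rfl
      rw [e1, e2, K58.Fr.map_mat, m1, m2]

end ract

/-! ### the action on `D0` -/

section mid

open K412 K819

variable {A B : Type u} [CommRing A] [CommRing B] {Lb : Type u} [CommRing Lb] [Algebra Lb A] {G : RGrpd A B}
  {D : Gen Lb G} {κ : Type u} [Field κ] {x : A →+* κ} {F : FrRing D x} (M : MidData F)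

/-- associativity in the universal case -/
theorem assoc_univ (hs : G.s.Flat) {U : Type u} [CommRing U] (r r' r'' : M.D1 →+* U) (hr : r.Flat)
    (hc : (r'.comp M.g).comp G.s = (r.comp M.g).comp G.t) (h1 : r'.comp M.σ = r.comp M.τ)
    (h2 : r''.comp M.σ = r.comp M.σ) (h3 : r''.comp M.g = G.comp (r'.comp M.g) (r.comp M.g) hc) :
    r''.comp M.τ = r'.comp M.τ := by
  -- equality on `F.R`
  have t1 := isTrans_point M r
  have t2 := isTrans_point M r'
  have t3 := isTrans_point M r''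
  rw [h1] at t2
  have t4 := FrAct.IsTrans_trans hs (FrAct.isFrC_pt _) t1 t2 hc
  rw [h3, h2] at t3
  have e : (r''.comp M.τ).comp (algebraMap F.R M.D0) = (r'.comp M.τ).comp (algebraMap F.R M.D0) :=
    FrAct.act_unique t3 t4
  refine M.sec.hom_ext ?_ e
  -- `U` is sheafy for `r'' τ s`
  have f1 : (r.comp M.σ).Flat := RingHom.Flat.comp (sigma_flat M hs) hr
  have f2 : K478.Sheafy fun z => (r.comp M.σ) (algebraMap F.R M.D0 (K819.sIJ F z)) := by
    let _ := (r.comp M.σ).toAlgebra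
    have : Module.Flat M.D0 U := f1
    exact M.sec.sh.of_flat (E := U)
  refine f2.mono fun z => ?_
  have f3 := sigma_mem_radical M hs z
  rw [← h2]
  obtain ⟨n, hn⟩ := f3
  refine ⟨n, ?_⟩
  have f4 := Ideal.mem_map_of_mem r'' hn
  rw [Ideal.map_span, ← Set.range_comp, map_pow] at f4
  exact f4

/-- **the action on `D0`** -/
def ofMid (hs : G.s.Flat) : RAct G M.D0 M.D1 where
  p := (algebraMap F.R M.D0).comp F.P.a
  σ := M.σ
  τ := M.τ
  g := M.g
  hg := M.hg
  po d γ h := M.po d γ h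
  ht := M.tr.tgt
  assoc := by
    intro T _ r r' r'' hc h1 h2 h3
    obtain ⟨U, _, inl, inr, hU, hdesc, hflat⟩ := FrAct.exists_po M.τ M.σ
    obtain ⟨f, hf1, hf2⟩ := hdesc r r' h1.symm
    have hcU : (inr.comp M.g).comp G.s = (inl.comp M.g).comp G.t := by
      have e1 := congrArg (fun f => f.comp ((algebraMap F.R M.D0).comp F.P.a)) hU
      have e2 : M.g.comp G.t = M.τ.comp ((algebraMap F.R M.D0).comp F.P.a) := M.tr.tgt
      have e3 : M.g.comp G.s = M.σ.comp ((algebraMap F.R M.D0).comp F.P.a) := M.hg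
      rw [RingHom.comp_assoc, RingHom.comp_assoc, e2, e3, ← RingHom.comp_assoc, ← RingHom.comp_assoc]
      exact e1.symm
    obtain ⟨q, ⟨hq1, hq2⟩, -⟩ := M.po (inl.comp M.σ) (G.comp (inr.comp M.g) (inl.comp M.g) hcU)
      (by rw [G.comp_s, RingHom.comp_assoc, M.hg]; rfl)
    have key := assoc_univ M hs inl inr q (hflat (sigma_flat M hs)) hcU hU.symm hq1 hq2
    -- `r'' = f ∘ q`
    have hrq : r'' = f.comp q := by
      have hpo := M.po (r.comp M.σ) (G.comp (r'.comp M.g) (r.comp M.g) hc)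
        (by rw [G.comp_s, RingHom.comp_assoc, M.hg]; rfl)
      refine hpo.unique ⟨h2, h3⟩ ⟨?_, ?_⟩
      · rw [RingHom.comp_assoc, hq1, ← RingHom.comp_assoc, hf1]
      · rw [RingHom.comp_assoc, hq2, G.comp_nat]
        exact FrAct.comp_congr G _ (by rw [← RingHom.comp_assoc, hf2]) (by rw [← RingHom.comp_assoc, hf1])
    rw [hrq, RingHom.comp_assoc, key, ← RingHom.comp_assoc, hf2]

end mid

/-! ### 128's `ActD` -/

section actd

variable {A : NFᵒᵖ ⥤ CommRingCat.{u}} {G : RGrpd (A.obj (op ⟨0⟩)) (A.obj (op ⟨1⟩))}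

/-- the categorical form -/
def RAct.actD (hG : K412.IsGrpd A G) {D R1 : Type u} [CommRing D] [CommRing R1] (a : RAct G D R1) :
    K128.Conerve.ActD A (CommRingCat.of D) (CommRingCat.of R1) where
  p := CommRingCat.ofHom a.p
  σ := CommRingCat.ofHom a.σ
  τ := CommRingCat.ofHom a.τ
  g := CommRingCat.ofHom a.g
  po := by
    have hs : G.s = (A.map (pr ⟨0⟩).op).hom := hG.s
    have hc : ∀ c : PushoutCocone (A.map (pr ⟨0⟩).op) (CommRingCat.ofHom a.p),
        c.inl.hom.comp G.s = c.inr.hom.comp a.p := fun c => by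
      rw [hs]
      exact congrArg CommRingCat.Hom.hom c.condition
    have hd := fun c : PushoutCocone (A.map (pr ⟨0⟩).op) (CommRingCat.ofHom a.p) =>
      a.po c.inr.hom c.inl.hom (hc c)
    refine ⟨⟨?_⟩, ⟨PushoutCocone.IsColimit.mk _ (fun c => CommRingCat.ofHom (hd c).choose) ?_ ?_ ?_⟩⟩
    · apply CommRingCat.hom_ext
      have := a.hg
      rw [hs] at this
      exact this
    · intro c
      apply CommRingCat.hom_ext
      exact (hd c).choose_spec.1.2
    · intro c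
      apply CommRingCat.hom_ext
      exact (hd c).choose_spec.1.1
    · intro c m h1 h2
      apply CommRingCat.hom_ext
      exact (hd c).choose_spec.2 m.hom ⟨congrArg CommRingCat.Hom.hom h2, congrArg CommRingCat.Hom.hom h1⟩
  ht := by
    apply CommRingCat.hom_ext
    have := a.ht
    rw [hG.t] at this
    exact this
  assoc := by
    intro T r r' r'' m h1 h2 h3 h4 h5
    have e1 : r'.hom.comp a.σ = r.hom.comp a.τ := congrArg CommRingCat.Hom.hom h1
    have e2 : r''.hom.comp a.σ = r.hom.comp a.σ := congrArg CommRingCat.Hom.hom h2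
    have e3 : m.hom.comp (rg A (show (⟨2⟩ : NF) ⟶ ⟨1⟩ from (![0, 1] : Fin 2 → Fin 3))) = r.hom.comp a.g :=
      congrArg CommRingCat.Hom.hom h3
    have e4 : m.hom.comp (rg A (show (⟨2⟩ : NF) ⟶ ⟨1⟩ from (![1, 2] : Fin 2 → Fin 3))) = r'.hom.comp a.g :=
      congrArg CommRingCat.Hom.hom h4
    have e5 : m.hom.comp (rg A (show (⟨2⟩ : NF) ⟶ ⟨1⟩ from (![0, 2] : Fin 2 → Fin 3))) = r''.hom.comp a.g :=
      congrArg CommRingCat.Hom.hom h5
    have hc := a.hc e1
    have hc' : (m.hom.comp (rg A (show (⟨2⟩ : NF) ⟶ ⟨1⟩ from (![1, 2] : Fin 2 → Fin 3)))).comp G.s =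
      (m.hom.comp (rg A (show (⟨2⟩ : NF) ⟶ ⟨1⟩ from (![0, 1] : Fin 2 → Fin 3)))).comp G.t := by
      rw [e3, e4, hc]
    have e6 : r''.hom.comp a.g = G.comp (r'.hom.comp a.g) (r.hom.comp a.g) hc := by
      rw [← e5, ← hG.comp m.hom hc']
      exact FrAct.comp_congr G _ e4 e3
    apply CommRingCat.hom_ext
    exact a.assoc r.hom r'.hom r''.hom hc e1 e2 e6

open K412 in
/-- **Z1a** on `D0` -/
theorem exists_actD_mid {Lb : Type u} [CommRing Lb] [Algebra Lb (A.obj (op ⟨0⟩))] {D : Gen Lb G} {κ : Type u} [Field κ]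
    {x : (A.obj (op ⟨0⟩)) →+* κ} {F : FrRing D x} (M : MidData F) (hG : IsGrpd A G) (hs : G.s.Flat) :
    ∃ X : K128.Conerve.ActD A (CommRingCat.of M.D0) (CommRingCat.of M.D1),
      X.p.hom = algebraMap (A.obj (op ⟨0⟩)) M.D0 ∧ X.σ.hom = M.σ ∧ X.τ.hom = M.τ ∧ X.g.hom = M.g :=
  ⟨(ofMid M hs).actD hG, rfl, rfl, rfl, rfl⟩

open K412 in
/-- **Z1a** on the frame algebra -/
theorem exists_actD_fr {Lb : Type u} [CommRing Lb] [Algebra Lb (A.obj (op ⟨0⟩))] {D : Gen Lb G} {κ : Type u} [Field κ]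
    {x : (A.obj (op ⟨0⟩)) →+* κ} {F : FrRing D x} (M : MidData F) (hG : IsGrpd A G) (hs : G.s.Flat)
    {n : Type} [Fintype n] [DecidableEq n] (i₀ : n) (φ : n → M.B0)
    (hσ : ∀ i, M.σ (algebraMap M.B0 M.D0 (φ i)) = algebraMap M.B0 M.D1 (φ i))
    (hτ : ∀ i, M.τ (algebraMap M.B0 M.D0 (φ i)) = algebraMap M.B0 M.D1 (φ i)) :
    ∃ X : K128.Conerve.ActD A (CommRingCat.of (K58.Fr i₀ fun i => algebraMap M.B0 M.D0 (φ i)))
        (CommRingCat.of (K58.Fr i₀ fun i => algebraMap M.B0 M.D1 (φ i))),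
      X.p.hom = algebraMap (A.obj (op ⟨0⟩)) (K58.Fr i₀ fun i => algebraMap M.B0 M.D0 (φ i)) ∧
      X.σ.hom = K58.Fr.map M.σ hσ ∧ X.τ.hom = K58.Fr.map M.τ hτ ∧
      X.g.hom = (algebraMap M.D1 (K58.Fr i₀ fun i => algebraMap M.B0 M.D1 (φ i))).comp M.g :=
  ⟨((ofMid M hs).fr i₀ hσ hτ).actD hG, (MidData.algebraMap_AFr M i₀ _).symm, rfl, rfl, rfl⟩

open K412 in
theorem σ_B {A B : Type u} [CommRing A] [CommRing B] {Lb : Type u} [CommRing Lb] [Algebra Lb A] {G : RGrpd A B}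
    {D : Gen Lb G} {κ : Type u} [Field κ] {x : A →+* κ} {F : FrRing D x} (M : MidData F) (b : M.B0) :
    M.σ (algebraMap M.B0 M.D0 b) = algebraMap M.B0 M.D1 b := by
  rw [M.algB1_eq]
  rfl

open K412 in
theorem τ_B {A B : Type u} [CommRing A] [CommRing B] {Lb : Type u} [CommRing Lb] [Algebra Lb A] {G : RGrpd A B}
    {D : Gen Lb G} {κ : Type u} [Field κ] {x : A →+* κ} {F : FrRing D x} (M : MidData F) (b : M.B0) :
    M.τ (algebraMap M.B0 M.D0 b) = algebraMap M.B0 M.D1 b := by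
  rw [M.τ_B, σ_B]

section named

open K412

variable {Lb : Type u} [CommRing Lb] [Algebra Lb (A.obj (op ⟨0⟩))] {D : Gen Lb G} {κ : Type u} [Field κ]
  {x : (A.obj (op ⟨0⟩)) →+* κ} {F : FrRing D x} (M : MidData F) (hG : IsGrpd A G) (hs : G.s.Flat)
  {n : Type} [Fintype n] [DecidableEq n] (i₀ : n) (φ : n → M.B0)

/-- the action on `D0` -/
def X0 : K128.Conerve.ActD A (CommRingCat.of M.D0) (CommRingCat.of M.D1) := (ofMid M hs).actD hG

/-- the action on the frame algebra -/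
def XFr : K128.Conerve.ActD A (CommRingCat.of (K58.Fr i₀ (algebraMap M.B0 M.D0 ∘ φ)))
    (CommRingCat.of (K58.Fr i₀ (algebraMap M.B0 M.D1 ∘ φ))) :=
  ((ofMid M hs).fr i₀ (φ := algebraMap M.B0 M.D0 ∘ φ) (φ1 := algebraMap M.B0 M.D1 ∘ φ) (fun i => σ_B M (φ i))
    (fun i => τ_B M (φ i))).actD hG

theorem XFr_p : (XFr M hG hs i₀ φ).p.hom = algebraMap (A.obj (op ⟨0⟩)) (K58.Fr i₀ (algebraMap M.B0 M.D0 ∘ φ)) :=
  (MidData.algebraMap_AFr M i₀ _).symm

theorem XFr_σ : (XFr M hG hs i₀ φ).σ.hom = K58.Fr.map (i₀ := i₀) (φ := algebraMap M.B0 M.D0 ∘ φ)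
    (φ' := algebraMap M.B0 M.D1 ∘ φ) M.σ (fun i => σ_B M (φ i)) := rfl

theorem XFr_τ : (XFr M hG hs i₀ φ).τ.hom = K58.Fr.map (i₀ := i₀) (φ := algebraMap M.B0 M.D0 ∘ φ)
    (φ' := algebraMap M.B0 M.D1 ∘ φ) M.τ (fun i => τ_B M (φ i)) := rfl

theorem XFr_g : (XFr M hG hs i₀ φ).g.hom =
    (algebraMap M.D1 (K58.Fr i₀ (algebraMap M.B0 M.D1 ∘ φ))).comp M.g := rfl

end named

end actd

end Groth.Agent.ResProp.EF.K840.Z1a
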